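import Cfsg.Prelude.Def_LieExceptional
import Cfsg.Agent.Perm.Zassenhaus
import Cfsg.Agent.Perm.RegularNormal
import Cfsg.Agent.Characters.FrobeniusKernel
import Cfsg.Agent.RankOne.Deep

/-!
Zassenhaus groups: the kernel of a point stabiliser, normal subgroups, odd degree.

* `exists_kernel`, `normal_isZassenhaus`, `isSimpleGroup_of_odd`.
-/

set_option autoImplicit false
set_option linter.unusedSectionVars false
set_option linter.style.haveILetI false

namespace CfsgLib.Zassenhaus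

open MulAction

variable {G Ω : Type*} [Group G] [MulAction G Ω] [Finite Ω]

theorem finite_group (hZ : Cfsg.IsZassenhausGroup G Ω) : Finite G :=
  haveI := hZ.1
  Finite.of_injective (fun g : G => MulAction.toPerm (β := Ω) g) MulAction.toPerm_injective

theorem eq_one (hZ : Cfsg.IsZassenhausGroup G Ω) {g : G} {a b c : Ω} (hab : a ≠ b) (hbc : b ≠ c)
    (hac : a ≠ c) (ha : g • a = a) (hb : g • b = b) (hc : g • c = c) : g = 1 :=
  hZ.2.2.1 g a b c hab hbc hac ha hb hc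

theorem exists_ne (hZ : Cfsg.IsZassenhausGroup G Ω) (a : Ω) : ∃ b : Ω, b ≠ a := by
  obtain ⟨g, -, c, d, hcd, -, -⟩ := hZ.2.2.2.1
  by_cases h : c = a
  · exact ⟨d, fun h' => hcd (h.trans h'.symm)⟩
  · exact ⟨c, h⟩

/-- A two-point stabiliser is non-trivial. -/
theorem exists_fix_two (hZ : Cfsg.IsZassenhausGroup G Ω) {a b : Ω} (hab : a ≠ b) :
    ∃ x : G, x ≠ 1 ∧ x • a = a ∧ x • b = b := by
  obtain ⟨g, hg, c, d, hcd, hc, hd⟩ := hZ.2.2.2.1
  obtain ⟨k, hkc, hkd⟩ := is_two_pretransitive_iff.1 hZ.2.1 hcd hab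
  refine ⟨k * g * k⁻¹, fun h => hg ?_, ?_, ?_⟩
  · rwa [mul_inv_eq_one, mul_eq_left] at h
  · rw [← hkc, mul_smul, mul_smul, inv_smul_smul, hc]
  · rw [← hkd, mul_smul, mul_smul, inv_smul_smul, hd]

/-- The kernel of a point stabiliser. -/
theorem exists_kernel (hZ : Cfsg.IsZassenhausGroup G Ω) (a : Ω) :
    ∃ Q : Subgroup G, Q ≤ stabilizer G a ∧
      (∀ h ∈ stabilizer G a, ∀ x ∈ Q, h * x * h⁻¹ ∈ Q) ∧
      (∀ x ∈ Q, x ≠ 1 → ∀ c : Ω, x • c = c → c = a) ∧
      (∀ b c : Ω, b ≠ a → c ≠ a → ∃ x ∈ Q, x • b = c) ∧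
      (∀ b : Ω, b ≠ a → Q ⊔ (stabilizer G a ⊓ stabilizer G b) = stabilizer G a) ∧
      Nat.card Q + 1 = Nat.card Ω ∧
      ∀ g : G, g • a = a → (∀ c : Ω, g • c = c → c = a) → g ∈ Q := by
  classical
  haveI := finite_group hZ
  obtain ⟨b, hb⟩ := exists_ne hZ a
  set M := stabilizer G a with hM
  set H : Subgroup M := (stabilizer G a ⊓ stabilizer G b).subgroupOf M with hH
  have hHmem : ∀ x : M, x ∈ H ↔ (x : G) • b = b := fun x =>
    ⟨fun h => (Subgroup.mem_inf.1 h).2, fun h => Subgroup.mem_inf.2 ⟨x.2, h⟩⟩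
  have hmal : ∀ g : M, g ∉ H → ∀ x ∈ H, g * x * g⁻¹ ∈ H → x = 1 := by
    intro g hg x hx hgx
    rw [hHmem] at hx hgx
    refine Subtype.ext (eq_one hZ (a := a) (b := b) (c := (g : G)⁻¹ • b) hb.symm ?_ ?_ x.2 hx ?_)
    · intro h
      exact hg ((hHmem g).2 (eq_inv_smul_iff.1 h))
    · intro h
      exact hb ((eq_inv_smul_iff.1 h).symm.trans g.2)
    · have h1 : ((g : G) * (x : G) * (g : G)⁻¹) • b = b := hgx
      rw [mul_smul, mul_smul, ← eq_inv_smul_iff] at h1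
      exact h1
  obtain ⟨N, hNn, hNc, hNmem⟩ := Characters.exists_frobenius_kernel H hmal
  set Q := N.map M.subtype with hQ
  have hle : Q ≤ M := Subgroup.map_subtype_le N
  have hfix : ∀ x ∈ Q, x ≠ 1 → ∀ c : Ω, x • c = c → c = a := by
    rintro _ ⟨x, hx, rfl⟩ hx1 c hc
    by_contra hca
    obtain ⟨g, hga, hgb⟩ := is_two_pretransitive_iff.1 hZ.2.1 hb.symm (Ne.symm hca)
    refine hx1 (congrArg Subtype.val ((hNmem x).1 hx ⟨g, hga⟩ ?_))
    rw [hHmem]
    show ((g : G)⁻¹ * (x : G) * g) • b = b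
    rw [mul_smul, mul_smul, hgb, show (x : G) • c = c from hc, ← hgb, inv_smul_smul]
  have honly : ∀ g : G, g • a = a → (∀ c : Ω, g • c = c → c = a) → g ∈ Q := by
    intro g hga hg
    refine ⟨⟨g, hga⟩, (hNmem _).2 fun y hy => ?_, rfl⟩
    exfalso
    rw [hHmem] at hy
    have h1 : ((y : G)⁻¹ * g * y) • b = b := hy
    rw [mul_smul, mul_smul, inv_smul_eq_iff] at h1
    have h2 := hg _ h1
    exact hb ((smul_left_cancel_iff (y : G)).1 (h2.trans y.2.symm))
  have htr : ∀ c : Ω, c ≠ a → ∃ x ∈ Q, x • b = c := by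
    intro c hc
    obtain ⟨g, hga, hgb⟩ := is_two_pretransitive_iff.1 hZ.2.1 hb.symm (Ne.symm hc)
    obtain ⟨⟨⟨n, hn⟩, ⟨h, hh⟩⟩, e⟩ := hNc.2 ⟨g, hga⟩
    refine ⟨n, ⟨n, hn, rfl⟩, ?_⟩
    have e' : (n : G) * (h : G) = g := congrArg Subtype.val e
    rw [← hgb, ← e', mul_smul, (hHmem h).1 hh]
  have hconj : ∀ h ∈ M, ∀ x ∈ Q, h * x * h⁻¹ ∈ Q := by
    rintro h hh _ ⟨x, hx, rfl⟩
    exact ⟨⟨h, hh⟩ * x * ⟨h, hh⟩⁻¹, hNn.conj_mem x hx _, rfl⟩
  have hcard : Nat.card Q + 1 = Nat.card Ω := by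
    haveI := Fintype.ofFinite Ω
    let f : Q → {c : Ω // c ≠ a} := fun x => ⟨(x : G) • b, fun h =>
      hb ((smul_left_cancel_iff (x : G)).1 (h.trans (hle x.2).symm))⟩
    have hf : Function.Bijective f := by
      refine ⟨fun x y hxy => ?_, fun c => ?_⟩
      · have h1 : (x : G) • b = (y : G) • b := congrArg Subtype.val hxy
        by_contra hne
        refine hb (hfix ((y : G)⁻¹ * x) (mul_mem (inv_mem y.2) x.2) (fun h => hne ?_) b ?_)
        · exact Subtype.ext (inv_mul_eq_one.1 h).symm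
        · rw [mul_smul, h1, inv_smul_smul]
      · obtain ⟨x, hx, h⟩ := htr c c.2
        exact ⟨⟨x, hx⟩, Subtype.ext h⟩
    rw [Nat.card_eq_of_bijective f hf, Nat.card_eq_fintype_card, Nat.card_eq_fintype_card,
      Fintype.card_subtype_compl, Fintype.card_subtype_eq]
    have : 0 < Fintype.card Ω := Fintype.card_pos_iff.2 ⟨a⟩
    omega
  refine ⟨Q, hle, hconj, hfix, fun c d hc hd => ?_, fun c hc => ?_, hcard, honly⟩
  · obtain ⟨x, hx, rfl⟩ := htr c hc
    obtain ⟨y, hy, rfl⟩ := htr d hd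
    exact ⟨y * x⁻¹, mul_mem hy (inv_mem hx), by rw [mul_smul, inv_smul_smul]⟩
  · refine le_antisymm (sup_le hle inf_le_left) fun g hg => ?_
    have hgc : g • c ≠ a := fun h => hc ((smul_left_cancel_iff g).1 (h.trans hg.symm))
    obtain ⟨x, hx, hxb⟩ := htr c hc
    obtain ⟨y, hy, hyb⟩ := htr (g • c) hgc
    have hd : (y * x⁻¹)⁻¹ * g ∈ stabilizer G a ⊓ stabilizer G c := by
      refine Subgroup.mem_inf.2 ⟨mul_mem (inv_mem (hle (mul_mem hy (inv_mem hx)))) hg, ?_⟩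
      rw [mem_stabilizer_iff, mul_smul, inv_smul_eq_iff, mul_smul, ← hyb,
        eq_comm, smul_left_cancel_iff, inv_smul_eq_iff, hxb]
    rw [show g = (y * x⁻¹) * ((y * x⁻¹)⁻¹ * g) by group]
    exact Subgroup.mul_mem_sup (mul_mem hy (inv_mem hx)) hd

theorem pretransitive_normal (hZ : Cfsg.IsZassenhausGroup G Ω) (N : Subgroup G) [N.Normal]
    (hN : N ≠ ⊥) : IsPretransitive N Ω := by
  haveI := hZ.1
  haveI := isPreprimitive_of_is_two_pretransitive hZ.2.1
  refine IsQuasiPreprimitive.isPretransitive_of_normal fun h => hN ?_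
  rw [Subgroup.eq_bot_iff_forall]
  intro n hn
  refine eq_of_smul_eq_smul (α := Ω) fun x => ?_
  have : x ∈ fixedPoints N Ω := by rw [h]; exact trivial
  rw [one_smul]
  exact this ⟨n, hn⟩

/-- A normal subgroup contains an element with exactly two fixed points. -/
theorem exists_fix_two_normal (hZ : Cfsg.IsZassenhausGroup G Ω) (N : Subgroup G) [N.Normal]
    (hN : N ≠ ⊥) : ∃ h ∈ N, ∃ a b : Ω, a ≠ b ∧ h ≠ 1 ∧ h • a = a ∧ h • b = b := by
  classical
  haveI := finite_group hZ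
  haveI := pretransitive_normal hZ N hN
  by_contra hno
  push Not at hno
  -- every element of `N` fixing a point fixes only that point
  obtain ⟨a, ha⟩ := hZ.2.2.2.2 N inferInstance inferInstance
  have hmal : ∀ g : N, g ∉ stabilizer N a → ∀ x ∈ stabilizer N a,
      g * x * g⁻¹ ∈ stabilizer N a → x = 1 := by
    intro g hg x hx hgx
    by_contra hx1
    have hga : (g : G)⁻¹ • a ≠ a := fun h => hg (inv_smul_eq_iff.1 h).symm
    refine hno x x.2 a ((g : G)⁻¹ • a) hga.symm (fun h => hx1 (Subtype.ext h)) hx ?_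
    have h1 : ((g : G) * (x : G) * (g : G)⁻¹) • a = a := hgx
    rw [mul_smul, mul_smul, ← eq_inv_smul_iff] at h1
    exact h1
  obtain ⟨R, hRn, hRc, hRmem⟩ := Characters.exists_frobenius_kernel (stabilizer N a) hmal
  have hRfpf : ∀ x : N, x ∈ R ↔ ∀ c : Ω, (x : G) • c = c → x = 1 := by
    intro x
    rw [hRmem]
    constructor
    · intro h c hc
      obtain ⟨y, rfl⟩ := IsPretransitive.exists_smul_eq (M := N) a c
      refine h y ?_
      show ((y : G)⁻¹ * (x : G) * y) • a = a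
      rw [mul_smul, mul_smul, inv_smul_eq_iff]
      exact hc
    · intro h y hy
      refine h ((y : G) • a) ?_
      have h1 : ((y : G)⁻¹ * (x : G) * y) • a = a := hy
      rw [mul_smul, mul_smul, inv_smul_eq_iff] at h1
      exact h1
  set R' := R.map N.subtype with hR'
  have hR'n : R'.Normal := ⟨by
    rintro _ ⟨x, hx, rfl⟩ g
    refine ⟨⟨g * (x : G) * g⁻¹, (inferInstance : N.Normal).conj_mem _ x.2 g⟩, ?_, rfl⟩
    show _ ∈ R
    rw [hRfpf]
    intro c hc
    have h1 : (g * (x : G) * g⁻¹) • c = c := hc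
    rw [mul_smul, mul_smul, ← eq_inv_smul_iff] at h1
    have h2 := (hRfpf x).1 hx _ h1
    apply Subtype.ext
    show g * (x : G) * g⁻¹ = 1
    rw [h2, Subgroup.coe_one, mul_one, mul_inv_cancel]⟩
  have hR't : IsPretransitive R' Ω := by
    have key : ∀ c : Ω, ∃ r : R', (r : G) • a = c := by
      intro c
      obtain ⟨y, rfl⟩ := IsPretransitive.exists_smul_eq (M := N) a c
      obtain ⟨⟨⟨r, hr⟩, ⟨h, hh⟩⟩, e⟩ := hRc.2 y
      refine ⟨⟨r, r, hr, rfl⟩, ?_⟩
      have e' : (r : G) * (h : G) = y := congrArg Subtype.val e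
      show (r : G) • a = (y : G) • a
      rw [← e', mul_smul, show (h : G) • a = a from hh]
    refine ⟨fun x y => ?_⟩
    obtain ⟨r, rfl⟩ := key x
    obtain ⟨s, rfl⟩ := key y
    exact ⟨s * r⁻¹, by rw [← Subgroup.smul_def r a, mul_smul, inv_smul_smul]; rfl⟩
  obtain ⟨c, hc⟩ := hZ.2.2.2.2 R' hR'n hR't
  apply hc
  rw [Subgroup.eq_bot_iff_forall]
  rintro ⟨_, x, hx, rfl⟩ h
  exact Subtype.ext (show (x : G) = 1 by rw [(hRfpf x).1 hx c h, Subgroup.coe_one])

/-- A normal subgroup with an element fixing `a` and another point contains the kernel at `a`. -/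
theorem kernel_le_normal (hZ : Cfsg.IsZassenhausGroup G Ω) (N : Subgroup G) [N.Normal] {a b : Ω}
    (hab : a ≠ b) {h : G} (hhN : h ∈ N) (hh : h ≠ 1) (ha : h • a = a) (hb : h • b = b)
    {Q : Subgroup G} (hQn : ∀ g ∈ stabilizer G a, ∀ x ∈ Q, g * x * g⁻¹ ∈ Q)
    (hQle : Q ≤ stabilizer G a)
    (hQfix : ∀ x ∈ Q, x ≠ 1 → ∀ c : Ω, x • c = c → c = a) : Q ≤ N := by
  haveI := finite_group hZ
  intro q hq
  have hmem : ∀ x : Q, h * (x : G) * h⁻¹ * (x : G)⁻¹ ∈ Q := fun x =>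
    mul_mem (hQn h ha x x.2) (inv_mem x.2)
  obtain ⟨x, hx⟩ := Finite.surjective_of_injective
    (f := fun x : Q => (⟨_, hmem x⟩ : Q)) (fun x y hxy => by
      have h1 : h * (x : G) * h⁻¹ * (x : G)⁻¹ = h * (y : G) * h⁻¹ * (y : G)⁻¹ := congrArg Subtype.val hxy
      have h2 : h * ((y : G)⁻¹ * x) = ((y : G)⁻¹ * x) * h := by
        calc h * ((y : G)⁻¹ * x) = h * (y : G)⁻¹ * h⁻¹ * (h * (x : G) * h⁻¹ * (x : G)⁻¹) * x * h := by group
          _ = _ := by rw [h1]; group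
      by_contra hne
      set z := (y : G)⁻¹ * x
      have hzQ : z ∈ Q := mul_mem (inv_mem y.2) x.2
      have hz1 : z ≠ 1 := fun e => hne (Subtype.ext (inv_mul_eq_one.1 e).symm)
      have h3 : h • z • b = z • b := by rw [← mul_smul, h2, mul_smul, hb]
      have h4 : z • a = a := hQle hzQ
      have hzb : z • b ≠ b := fun e => hab (hQfix z hzQ hz1 b e).symm
      have hzba : z • b ≠ a := fun e => hab ((smul_left_cancel_iff z).1 (h4.trans e.symm))
      exact hh (eq_one hZ hab (Ne.symm hzb) (Ne.symm hzba) ha hb h3)) ⟨q, hq⟩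
  have h1 : h * (x : G) * h⁻¹ * (x : G)⁻¹ = q := congrArg Subtype.val hx
  rw [← h1, show h * (x : G) * h⁻¹ * (x : G)⁻¹ = h * ((x : G) * h⁻¹ * (x : G)⁻¹) by group]
  exact mul_mem hhN ((inferInstance : N.Normal).conj_mem _ (inv_mem hhN) x)

/-- `N` contains the kernel at every point. -/
theorem kernel_le_normal' (hZ : Cfsg.IsZassenhausGroup G Ω) (N : Subgroup G) [N.Normal] (hN : N ≠ ⊥)
    (a : Ω) {Q : Subgroup G} (hQle : Q ≤ stabilizer G a)
    (hQn : ∀ g ∈ stabilizer G a, ∀ x ∈ Q, g * x * g⁻¹ ∈ Q)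
    (hQfix : ∀ x ∈ Q, x ≠ 1 → ∀ c : Ω, x • c = c → c = a) : Q ≤ N := by
  obtain ⟨h, hhN, b, c, hbc, hh, hb, hc⟩ := exists_fix_two_normal hZ N hN
  obtain ⟨d, hd⟩ := exists_ne hZ a
  obtain ⟨g, hgb, hgc⟩ := is_two_pretransitive_iff.1 hZ.2.1 hbc hd.symm
  refine kernel_le_normal hZ N hd.symm ((inferInstance : N.Normal).conj_mem h hhN g)
    (fun e => hh ?_) ?_ ?_ hQn hQle hQfix
  · rwa [mul_inv_eq_one, mul_eq_left] at e
  · rw [← hgb, mul_smul, mul_smul, inv_smul_smul, hb]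
  · rw [← hgc, mul_smul, mul_smul, inv_smul_smul, hc]

/-- A non-trivial normal subgroup is doubly transitive. -/
theorem two_transitive_normal (hZ : Cfsg.IsZassenhausGroup G Ω) (N : Subgroup G) [N.Normal]
    (hN : N ≠ ⊥) : IsMultiplyPretransitive N Ω 2 := by
  rw [is_two_pretransitive_iff]
  intro b₁ b₂ c₁ c₂ hb hc
  haveI := pretransitive_normal hZ N hN
  obtain ⟨m, hm⟩ := IsPretransitive.exists_smul_eq (M := N) b₁ c₁
  obtain ⟨Q, hQle, hQn, hQfix, hQtr, -, -, -⟩ := exists_kernel hZ c₁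
  have hne : m • b₂ ≠ c₁ := fun h => hb ((smul_left_cancel_iff m).1 (hm.trans h.symm))
  obtain ⟨x, hx, hxc⟩ := hQtr _ _ hne hc.symm
  refine ⟨⟨x, kernel_le_normal' hZ N hN c₁ hQle hQn hQfix hx⟩ * m, ?_, ?_⟩
  · rw [mul_smul, hm]
    exact hQle hx
  · rw [mul_smul]
    exact hxc

/-- A regular normal subgroup of a doubly transitive group is the only one. -/
theorem regular_normal_unique {N : Subgroup G} (h2 : IsMultiplyPretransitive N Ω 2) [Nontrivial Ω]
    [FaithfulSMul G Ω] (R S : Subgroup N) [R.Normal] [S.Normal] [IsPretransitive R Ω]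
    [IsPretransitive S Ω] (hR : ∀ a : Ω, stabilizer R a = ⊥) (hS : ∀ a : Ω, stabilizer S a = ⊥) :
    R = S := by
  haveI := h2
  haveI := isPreprimitive_of_is_two_pretransitive h2
  obtain ⟨p, j, -, -, -, hRc, -⟩ := Perm.RegularNormal.elementary R h2 hR
  obtain ⟨a, -⟩ := exists_pair_ne Ω
  have eqv : ∀ (R S : Subgroup N), R ≤ S → IsPretransitive R Ω → (∀ b : Ω, stabilizer S b = ⊥) →
      S ≤ R := by
    intro R S hRS hRt hS x hx
    obtain ⟨r, hr⟩ := hRt.exists_smul_eq a ((⟨x, hx⟩ : S) • a)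
    have h1 : (⟨r, hRS r.2⟩ : S)⁻¹ * ⟨x, hx⟩ ∈ stabilizer S a := by
      rw [mem_stabilizer_iff, mul_smul, inv_smul_eq_iff]
      exact hr.symm
    rw [hS a, Subgroup.mem_bot, inv_mul_eq_one] at h1
    have h2 : (r : N) = x := congrArg Subtype.val h1
    rw [← h2]; exact r.2
  by_cases h : R ⊓ S = ⊥
  · exfalso
    have hSR : S ≤ R := by
      intro s hs
      obtain ⟨r, hr⟩ := IsPretransitive.exists_smul_eq (M := R) a (s • a)
      have hcomm : ∀ r' : R, Commute s (r' : N) := fun r' =>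
        (Subgroup.commute_of_normal_of_disjoint R S inferInstance inferInstance (disjoint_iff.2 h)
          _ _ r'.2 hs).symm
      have h1 : (r : N)⁻¹ * s = 1 := by
        haveI : FaithfulSMul N Ω := ⟨fun hxy => Subtype.ext (eq_of_smul_eq_smul (α := Ω) fun c => hxy c)⟩
        refine eq_of_smul_eq_smul (α := Ω) fun c => ?_
        obtain ⟨r', rfl⟩ := IsPretransitive.exists_smul_eq (M := R) a c
        have hc : Commute ((r : N)⁻¹ * s) (r' : N) :=
          ((show Commute (r : N) (r' : N) from congrArg Subtype.val (hRc r r')).inv_left).mul_left (hcomm r')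
        have hfa : ((r : N)⁻¹ * s) • a = a := by
          rw [mul_smul, inv_smul_eq_iff]; exact hr.symm
        rw [one_smul, Subgroup.smul_def r' a, ← mul_smul, hc.eq, mul_smul, hfa]
      rw [inv_mul_eq_one] at h1
      rw [← h1]; exact r.2
    rw [inf_eq_right.2 hSR] at h
    obtain ⟨b, c, hbc⟩ := exists_pair_ne Ω
    obtain ⟨s, hs⟩ := IsPretransitive.exists_smul_eq (M := S) b c
    have h1 : (s : N) = 1 := Subgroup.mem_bot.1 (h ▸ s.2)
    rw [Subgroup.smul_def, h1, one_smul] at hs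
    exact hbc hs
  · haveI : FaithfulSMul N Ω := ⟨fun hxy => Subtype.ext (eq_of_smul_eq_smul (α := Ω) fun c => hxy c)⟩
    have ht : IsPretransitive ↥(R ⊓ S) Ω := by
      refine IsQuasiPreprimitive.isPretransitive_of_normal fun hf => h ?_
      rw [Subgroup.eq_bot_iff_forall]
      intro n hn
      refine eq_of_smul_eq_smul (α := Ω) fun x => ?_
      have : x ∈ fixedPoints ↥(R ⊓ S) Ω := by rw [hf]; exact trivial
      rw [one_smul]
      exact this ⟨n, hn⟩
    exact le_antisymm ((eqv _ R inf_le_left ht hR).trans inf_le_right)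
      ((eqv _ S inf_le_right ht hS).trans inf_le_left)

/-- A non-trivial normal subgroup of a Zassenhaus group is a Zassenhaus group. -/
theorem normal_isZassenhaus (hZ : Cfsg.IsZassenhausGroup G Ω) (N : Subgroup G) [N.Normal] (hN : N ≠ ⊥) :
    Cfsg.IsZassenhausGroup N Ω := by
  haveI := hZ.1
  have h2 := two_transitive_normal hZ N hN
  refine ⟨⟨fun hxy => Subtype.ext (eq_of_smul_eq_smul (α := Ω) fun c => hxy c)⟩, h2, ?_, ?_, ?_⟩
  · intro g a b c hab hbc hac ha hb hc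
    exact Subtype.ext (eq_one hZ hab hbc hac ha hb hc)
  · obtain ⟨h, hhN, a, b, hab, hh, ha, hb⟩ := exists_fix_two_normal hZ N hN
    exact ⟨⟨h, hhN⟩, fun e => hh (congrArg Subtype.val e), a, b, hab, ha, hb⟩
  · intro R hRn hRt
    by_contra hno
    push Not at hno
    obtain ⟨a₀, b₀, hab₀⟩ : ∃ a b : Ω, a ≠ b := by
      obtain ⟨g, -, a, b, hab, -, -⟩ := hZ.2.2.2.1; exact ⟨a, b, hab⟩
    haveI : Nontrivial Ω := ⟨⟨a₀, b₀, hab₀⟩⟩
    haveI := hRn
    haveI := hRt
    set R' := R.map N.subtype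
    have hR' : R'.Normal := ⟨by
      rintro _ ⟨x, hx, rfl⟩ g
      let c : N ≃* N := MulAut.conjNormal g
      set S := R.map c.toMonoidHom
      haveI : S.Normal := hRn.map _ c.surjective
      haveI : IsPretransitive S Ω := ⟨fun y z => by
        obtain ⟨r, hr⟩ := hRt.exists_smul_eq (g⁻¹ • y) (g⁻¹ • z)
        refine ⟨⟨c r, r, r.2, rfl⟩, ?_⟩
        show (g * ((r : N) : G) * g⁻¹) • y = z
        rw [mul_smul, mul_smul, show ((r : N) : G) • g⁻¹ • y = g⁻¹ • z from hr, smul_inv_smul]⟩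
      have hSreg : ∀ b : Ω, stabilizer S b = ⊥ := by
        intro b
        rw [Subgroup.eq_bot_iff_forall]
        rintro ⟨_, r, hr, rfl⟩ hb
        have h1 : (⟨r, hr⟩ : R) ∈ stabilizer R (g⁻¹ • b) := by
          show ((r : N) : G) • g⁻¹ • b = g⁻¹ • b
          rw [eq_inv_smul_iff, ← mul_smul, ← mul_smul]
          exact hb
        rw [hno, Subgroup.mem_bot] at h1
        have h2 : r = 1 := congrArg Subtype.val h1
        apply Subtype.ext
        show c r = 1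
        rw [h2, map_one]
      have := regular_normal_unique h2 R S hno hSreg
      refine ⟨c x, this ▸ ⟨x, hx, rfl⟩, rfl⟩⟩
    have hR't : IsPretransitive R' Ω := ⟨fun y z => by
      obtain ⟨r, hr⟩ := hRt.exists_smul_eq y z
      exact ⟨⟨r, r, r.2, rfl⟩, hr⟩⟩
    obtain ⟨c, hc⟩ := hZ.2.2.2.2 R' hR' hR't
    apply hc
    rw [Subgroup.eq_bot_iff_forall]
    rintro ⟨_, r, hr, rfl⟩ hb
    have h1 : (⟨r, hr⟩ : R) ∈ stabilizer R c := hb
    rw [hno, Subgroup.mem_bot] at h1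
    exact Subtype.ext (show (r : G) = 1 by rw [show r = 1 from congrArg Subtype.val h1, Subgroup.coe_one])

/-- An element of the two-point stabiliser commuting with a non-trivial element of the kernel is trivial. -/
theorem fpf_kernel (hZ : Cfsg.IsZassenhausGroup G Ω) {a b : Ω} (hab : a ≠ b) {x h : G}
    (hxa : x • a = a) (hxfix : ∀ c : Ω, x • c = c → c = a) (ha : h • a = a) (hb : h • b = b)
    (hc : h * x = x * h) : h = 1 := by
  have h3 : h • x • b = x • b := by rw [← mul_smul, hc, mul_smul, hb]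
  exact eq_one hZ hab (fun e => hab (hxfix b e.symm).symm)
    (fun e => hab ((smul_left_cancel_iff x).1 (hxa.trans e))) ha hb h3

/-- The kernel is nilpotent. -/
theorem isNilpotent_kernel (hZ : Cfsg.IsZassenhausGroup G Ω) {a : Ω} {Q : Subgroup G}
    (hQle : Q ≤ stabilizer G a) (hQn : ∀ g ∈ stabilizer G a, ∀ x ∈ Q, g * x * g⁻¹ ∈ Q)
    (hQfix : ∀ x ∈ Q, x ≠ 1 → ∀ c : Ω, x • c = c → c = a) : Group.IsNilpotent Q := by
  haveI := finite_group hZ
  obtain ⟨b, hb⟩ := exists_ne hZ a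
  obtain ⟨h, hh, hha, hhb⟩ := exists_fix_two hZ hb.symm
  obtain ⟨p, hp, hpd⟩ := Nat.exists_prime_and_dvd (n := Nat.card ↥(stabilizer G a ⊓ stabilizer G b))
    (fun e => hh (Subgroup.eq_bot_of_card_eq _ e ▸ Subgroup.mem_inf.2 ⟨hha, hhb⟩ : h ∈ (⊥ : Subgroup G)))
  haveI : Fact p.Prime := ⟨hp⟩
  obtain ⟨⟨r, hr⟩, hord⟩ := exists_prime_orderOf_dvd_card' p hpd
  rw [Subgroup.orderOf_mk] at hord
  obtain ⟨hra, hrb⟩ := Subgroup.mem_inf.1 hr
  refine ThompsonFpf.isNilpotent_of_conj (p := p) Q r ?_ (by rw [← hord]; exact pow_orderOf_eq_one r) ?_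
  · rw [Subgroup.mem_normalizer_iff]
    refine fun x => ⟨fun hx => hQn r hra x hx, fun hx => ?_⟩
    have := hQn r⁻¹ (inv_mem hra) _ hx
    rwa [show r⁻¹ * (r * x * r⁻¹) * r⁻¹⁻¹ = x by group] at this
  · rw [eq_bot_iff]
    intro x hx
    obtain ⟨hxQ, hxr⟩ := Subgroup.mem_inf.1 hx
    rw [Subgroup.mem_centralizer_singleton_iff] at hxr
    by_contra hx1
    rw [Subgroup.mem_bot] at hx1
    have := fpf_kernel hZ hb.symm (hQle hxQ) (hQfix x hxQ hx1) hra hrb hxr.symm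
    rw [this, orderOf_one] at hord
    exact hp.ne_one hord.symm

/-- A Zassenhaus group of odd degree gives a rank-one set-up, of 2-rank at least two. -/
theorem exists_setup (hZ : Cfsg.IsZassenhausGroup G Ω) (hodd : Odd (Nat.card Ω)) (a : Ω) :
    ∃ (t : G) (Q : Subgroup G), Cfsg.IsRankOneSetup G Ω a t Q ∧
      (∀ x ∈ Q, x ≠ 1 → ∀ c : Ω, x • c = c → c = a) ∧
      ∃ x y : G, x ≠ 1 ∧ y ≠ 1 ∧ x ≠ y ∧ x * x = 1 ∧ y * y = 1 ∧ x * y = y * x := by
  classical
  haveI := finite_group hZ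
  haveI := hZ.1
  haveI := Fintype.ofFinite Ω
  obtain ⟨Q, hQle, hQn, hQfix, hQtr, hQsup, hQcard, -⟩ := exists_kernel hZ a
  obtain ⟨b, hb⟩ := exists_ne hZ a
  obtain ⟨t, ht, hta, htb⟩ := Perm.Zassenhaus.exists_invol_swap hZ hb.symm
  have htt : t * t = 1 := by rw [← pow_two, ← ht, pow_orderOf_eq_one]
  have hev : Even (Nat.card Q) := by
    rw [← hQcard] at hodd
    exact Nat.odd_add_one.1 hodd |> Nat.not_odd_iff_even.1
  haveI : Fact (Nat.Prime 2) := ⟨Nat.prime_two⟩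
  have hD : Odd (Nat.card ↥(stabilizer G a ⊓ stabilizer G b)) := by
    by_contra hD
    rw [Nat.not_odd_iff_even, even_iff_two_dvd] at hD
    obtain ⟨⟨w, hw⟩, hw2⟩ := exists_prime_orderOf_dvd_card' 2 hD
    rw [Subgroup.orderOf_mk] at hw2
    obtain ⟨hwa, hwb⟩ := Subgroup.mem_inf.1 hw
    have hww : w * w = 1 := by rw [← pow_two, ← hw2, pow_orderOf_eq_one]
    have hw1 : w ≠ 1 := fun e => by rw [e, orderOf_one] at hw2; omega
    have hpar := Perm.Zassenhaus.fixedBy_parity (Ω := Ω) hww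
    have hle := Perm.Zassenhaus.fixedBy_le_two hZ hw1
    have h2 : 2 ≤ Nat.card (fixedBy Ω w) := by
      haveI : Nontrivial (fixedBy Ω w) := ⟨⟨a, hwa⟩, ⟨b, hwb⟩, fun e => hb (congrArg Subtype.val e).symm⟩
      exact Finite.one_lt_card
    rw [Nat.card_eq_fintype_card (α := Ω)] at hodd
    rw [show Nat.card (fixedBy Ω w) = 2 by omega, Nat.odd_iff.1 hodd] at hpar
    omega
  have hS : Cfsg.IsRankOneSetup G Ω a t Q :=
    { two_transitive := hZ.2.1
      mul_self := htt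
      ne_one := fun e => by rw [e, orderOf_one] at ht; omega
      not_mem := fun h => hb (hta.symm.trans h)
      le := hQle
      conj_mem := hQn
      inf_eq_bot := by
        rw [Subgroup.eq_bot_iff_forall, hta]
        intro x hx
        obtain ⟨hxQ, hxb⟩ := Subgroup.mem_inf.1 hx
        by_contra hx1
        exact hb (hQfix x hxQ hx1 b hxb)
      sup_eq := by rw [hta]; exact hQsup b hb
      even_card := hev
      odd_card := by rw [hta]; exact hD }
  refine ⟨t, Q, hS, hQfix, ?_⟩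
  haveI := isNilpotent_kernel hZ hQle hQn hQfix
  let P : Sylow 2 Q := default
  haveI : (P : Subgroup Q).Normal := inferInstance
  have hne := Solvable.inf_center_ne_bot (N := (P : Subgroup Q))
    (P.ne_bot_of_dvd_card (even_iff_two_dvd.1 hev))
  obtain ⟨⟨z, hz⟩, hz2⟩ := exists_prime_orderOf_dvd_card' 2
    (G := ↥((P : Subgroup Q) ⊓ Subgroup.center Q))
    ((P.isPGroup'.to_le inf_le_left).card_eq_or_dvd.resolve_left fun e =>
      hne (Subgroup.eq_bot_of_card_eq _ e))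
  rw [Subgroup.orderOf_mk, ← Subgroup.orderOf_coe] at hz2
  obtain ⟨h, hh, hha, hhb⟩ := exists_fix_two hZ hb.symm
  have hzz : (z : G) * z = 1 := by rw [← pow_two, ← hz2, pow_orderOf_eq_one]
  have hz1 : (z : G) ≠ 1 := fun e => by rw [e, orderOf_one] at hz2; omega
  refine ⟨z, h * z * h⁻¹, hz1, fun e => hz1 ?_, fun e => hh ?_, hzz, ?_, ?_⟩
  · rwa [mul_inv_eq_one, mul_eq_left] at e
  · exact fpf_kernel hZ hb.symm (hQle z.2) (hQfix z z.2 hz1) hha hhb (mul_inv_eq_iff_eq_mul.1 e.symm)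
  · rw [show h * (z : G) * h⁻¹ * (h * z * h⁻¹) = h * (z * z) * h⁻¹ by group, hzz]; group
  · exact (congrArg Subtype.val
      (Subgroup.mem_center_iff.1 (Subgroup.mem_inf.1 hz).2 ⟨_, hQn h hha z z.2⟩)).symm

/-- In odd degree an involution inverts the two-point stabiliser. -/
theorem inverts_of_odd (hZ : Cfsg.IsZassenhausGroup G Ω) {a : Ω} {t : G} {Q : Subgroup G} [Finite G]
    (hS : Cfsg.IsRankOneSetup G Ω a t Q)
    (hQfix : ∀ x ∈ Q, x ≠ 1 → ∀ c : Ω, x • c = c → c = a) {d : G}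
    (hd : d ∈ stabilizer G a ⊓ stabilizer G (t • a)) : t * d * t = d⁻¹ := by
  obtain ⟨y, hy, z, hz, hyt, hzt, rfl⟩ := RankOne.exists_decomp hS.mul_self hS.odd_card
    (fun x hx => RankOne.t_norm_D hS hx) hd
  obtain ⟨s, r, hs, hr, e⟩ := RankOne.exists_structure hS
  have hmem : y ∈ (stabilizer G a ⊓ stabilizer G (t • a)) ⊓ Subgroup.centralizer {t} :=
    Subgroup.mem_inf.2 ⟨hy, Subgroup.mem_centralizer_singleton_iff.2 hyt.symm⟩
  rw [RankOne.centralizer_eq_of_structure hS hs.1 hr e] at hmem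
  have hys : y * s = s * y :=
    Subgroup.mem_centralizer_singleton_iff.1 (Subgroup.mem_inf.1 hmem).2
  have hy1 : y = 1 := fpf_kernel hZ (RankOne.ta_ne hS).symm hs.1
    (hQfix s (RankOne.mem_Q_of_sq_eq_one hS hs.1 hs.2.2) hs.2.1) (Subgroup.mem_inf.1 hy).1
    (Subgroup.mem_inf.1 hy).2 hys
  rw [hy1, one_mul]
  exact hzt

/-- A Zassenhaus group of odd degree is simple. -/
theorem isSimpleGroup_of_odd (hZ : Cfsg.IsZassenhausGroup G Ω) (hodd : Odd (Nat.card Ω)) :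
    IsSimpleGroup G := by
  haveI := finite_group hZ
  obtain ⟨g₀, hg₀, a, b₀, hab₀, -, -⟩ := hZ.2.2.2.1
  haveI : Nontrivial G := ⟨⟨g₀, 1, hg₀⟩⟩
  obtain ⟨t, Q, hS, hQfix, h2⟩ := exists_setup hZ hodd a
  refine ⟨fun N hN => ?_⟩
  by_cases hbot : N = ⊥
  · exact Or.inl hbot
  refine Or.inr (eq_top_iff.2 fun g _ => ?_)
  haveI := hN
  have hQN : Q ≤ N := kernel_le_normal' hZ N hbot a hS.le (fun h hh => hS.conj_mem h hh) hQfix
  obtain ⟨s, hs, hs1, hs2⟩ := RankOne.exists_involution_Q hS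
  obtain ⟨c, hc⟩ := RankOne.involutions_conj hS hs1 hs2 hS.ne_one hS.mul_self
  have htN : t ∈ N := hc ▸ hN.conj_mem s (hQN hs) c
  have h2t := two_transitive_normal hZ N hbot
  obtain ⟨⟨n, hn⟩, hna, hnb⟩ := is_two_pretransitive_iff.1 h2t (RankOne.ta_ne hS).symm
    (show g • a ≠ g • (t • a) from fun e => RankOne.ta_ne hS ((smul_left_cancel_iff g).1 e).symm)
  have hd : n⁻¹ * g ∈ stabilizer G a ⊓ stabilizer G (t • a) := by
    refine Subgroup.mem_inf.2 ⟨?_, ?_⟩ <;> rw [mem_stabilizer_iff, mul_smul, inv_smul_eq_iff]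
    · exact hna.symm
    · exact hnb.symm
  set d := n⁻¹ * g with hddef
  have hinv := inverts_of_odd hZ hS hQfix hd
  have hd2 : d * d ∈ N := by
    have h1 : d * t * d⁻¹ * t ∈ N := mul_mem (hN.conj_mem t htN d) htN
    have h3 : t * d⁻¹ * t = d := by
      have := congrArg (·⁻¹) hinv
      simp only [mul_inv_rev, inv_inv, RankOne.t_inv hS] at this
      rw [mul_assoc]; exact this
    rwa [show d * t * d⁻¹ * t = d * (t * d⁻¹ * t) by group, h3] at h1
  obtain ⟨k, hk⟩ := RankOne.exists_sqrt (X := stabilizer G a ⊓ stabilizer G (t • a)) hS.odd_card hd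
  have hdN : d ∈ N := by
    rw [← hk, ← pow_add, ← two_mul, pow_mul, pow_two]
    exact pow_mem hd2 k
  rw [show g = n * d by rw [hddef]; group]
  exact mul_mem hn hdN

end CfsgLib.Zassenhaus
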