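import Cfsg.Agent.Zassenhaus.Line

/-!
Simple Zassenhaus groups with non-abelian 2-group kernel have Suzuki order: `|Q| = q²`, `q` an odd power of two.
-/

set_option autoImplicit false
set_option linter.unusedSectionVars false
set_option linter.style.haveILetI false

namespace CfsgLib.Zassenhaus

open MulAction Finset

variable {G Ω : Type*} [Group G] [MulAction G Ω] {a : Ω} {t : G} {Q : Subgroup G} {n q : ℕ}

/-- A free action by conjugation splits the non-identity elements into orbits of full length. -/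
theorem card_dvd_of_free [Finite G] (A E : Subgroup G) (hnorm : ∀ e ∈ E, ∀ b ∈ A, e * b * e⁻¹ ∈ A)
    (hfree : ∀ e ∈ E, ∀ b ∈ A, b ≠ 1 → e * b * e⁻¹ = b → e = 1) :
    Nat.card E ∣ Nat.card A - 1 := by
  classical
  haveI := Fintype.ofFinite G
  letI : MulAction E {b : G // b ∈ A ∧ b ≠ 1} :=
    { smul := fun e b => ⟨(e : G) * b * (e : G)⁻¹, hnorm e e.2 b b.2.1, fun h => b.2.2 (by
        rwa [mul_inv_eq_one, mul_eq_left] at h)⟩
      one_smul := fun b => Subtype.ext (show (1 : G) * b * (1 : G)⁻¹ = b by simp)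
      mul_smul := fun e f b => Subtype.ext (show (e : G) * f * b * ((e : G) * f)⁻¹ =
        (e : G) * (f * b * (f : G)⁻¹) * (e : G)⁻¹ by group) }
  have hst : ∀ b : {b : G // b ∈ A ∧ b ≠ 1}, stabilizer E b = ⊥ := fun b => by
    rw [Subgroup.eq_bot_iff_forall]
    intro e he
    exact Subtype.ext (hfree e e.2 b b.2.1 b.2.2 (congrArg Subtype.val he))
  have h1 := Nat.card_congr (MulAction.selfEquivOrbitsQuotientProd hst)
  have h2 : Nat.card {b : G // b ∈ A ∧ b ≠ 1} = Nat.card A - 1 := by
    rw [Nat.card_congr (Equiv.subtypeSubtypeEquivSubtypeInter (fun b : G => b ∈ A) (fun b => b ≠ 1)).symm,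
      Nat.card_eq_fintype_card, Nat.card_eq_fintype_card, Fintype.card_subtype_compl]
    congr 1
    rw [Fintype.card_eq_one_iff]
    exact ⟨⟨⟨1, one_mem A⟩, rfl⟩, fun x => Subtype.ext (Subtype.ext x.2)⟩
  rw [← h2, h1, Nat.card_prod]
  exact dvd_mul_left _ _

/-- A group with a single involution and exponent dividing four has at most eight elements. -/
theorem card_le_eight (E : Subgroup G) [Finite E] (u : G) (hexp : ∀ x ∈ E, x ^ 4 = 1)
    (hinv : ∀ x ∈ E, x * x = 1 → x = 1 ∨ x = u) (hcomm : ∀ x ∈ E, x * u = u * x) :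
    Nat.card E ≤ 8 := by
  classical
  have hsq : ∀ x ∈ E, x * x = 1 ∨ x * x = u := fun x hx => hinv _ (mul_mem hx hx) (by
    rw [show x * x * (x * x) = x ^ 4 by rw [show (4 : ℕ) = 2 + 2 from rfl, pow_add, pow_two]]; exact hexp x hx)
  have huE : ∀ x ∈ E, x ≠ 1 → x ≠ u → x * x = u := fun x hx h1 h2 =>
    (hsq x hx).resolve_left fun h => (hinv x hx h).elim h1 h2
  by_cases hall : ∀ x ∈ E, x = 1 ∨ x = u
  · have : Nat.card (E : Set G) ≤ 2 := by
      rw [Nat.card_coe_set_eq]
      exact (Set.ncard_le_ncard (t := {1, u}) (fun x hx => hall x hx) (Set.toFinite _)).trans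
        ((Set.ncard_insert_le _ _).trans (by rw [Set.ncard_singleton]))
    exact le_trans this (by norm_num)
  push Not at hall
  obtain ⟨x, hx, hx1, hxu⟩ := hall
  have hxx := huE x hx hx1 hxu
  have hu : u ∈ E := hxx ▸ mul_mem hx hx
  have huu : u * u = 1 := by
    rw [← hxx, show x * x * (x * x) = x ^ 4 by rw [show (4 : ℕ) = 2 + 2 from rfl, pow_add, pow_two]]; exact hexp x hx
  -- distinct cosets of `⟨u⟩` anticommute
  have key : ∀ y ∈ E, ∀ z ∈ E, y ≠ 1 → y ≠ u → z ≠ 1 → z ≠ u → y * z⁻¹ ≠ 1 → y * z⁻¹ ≠ u →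
      y * z = u * (z * y) := by
    intro y hy z hz y1 yu z1 zu hd1 hdu
    have hyy := huE y hy y1 yu
    have hzz := huE z hz z1 zu
    have hyz1 : y * z ≠ 1 := fun e => hdu (by
      rw [show z⁻¹ = y from inv_eq_of_mul_eq_one_left e, hyy])
    have hyzu : y * z ≠ u := fun e => hd1 (by
      have : y = z := by
        calc y = y * z * z⁻¹ := by group
          _ = u * z⁻¹ := by rw [e]
          _ = z := by rw [← hzz]; group
      rw [this, mul_inv_cancel])
    have hp := huE _ (mul_mem hy hz) hyz1 hyzu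
    calc y * z = y * z * (y * z * (z⁻¹ * y⁻¹)) := by group
      _ = (y * z) * (y * z) * (z⁻¹ * y⁻¹) := by group
      _ = u * (z * (z * z)⁻¹ * ((y * y)⁻¹ * y)) := by rw [hp]; group
      _ = u * (z * y) := by
          rw [hzz, hyy, inv_eq_of_mul_eq_one_right huu, mul_assoc z u, ← mul_assoc u u, huu, one_mul]
  by_cases hally : ∀ y ∈ E, y = 1 ∨ y = u ∨ y = x ∨ y = u * x
  · have : Nat.card (E : Set G) ≤ 8 := by
      rw [Nat.card_coe_set_eq]
      refine (Set.ncard_le_ncard (t := ↑({1, u, x, u * x} : Finset G)) (fun y hy => ?_) (Set.toFinite _)).trans ?_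
      · simpa using hally y hy
      · rw [Set.ncard_coe_finset]
        exact le_trans Finset.card_le_four (by norm_num)
    exact this
  push Not at hally
  obtain ⟨y, hy, hy1, hyu, hyx, hyux⟩ := hally
  have hxi : x⁻¹ = u * x := inv_eq_of_mul_eq_one_right (by
    rw [← mul_assoc, hcomm x hx, mul_assoc, hxx, huu])
  have hyy := huE y hy hy1 hyu
  have hne : ∀ z : G, z * x⁻¹ ≠ 1 ↔ z ≠ x := fun z => by rw [Ne, Ne, mul_inv_eq_one]
  have hneu : ∀ z : G, z * x⁻¹ ≠ u ↔ z ≠ u * x := fun z => by rw [Ne, Ne, mul_inv_eq_iff_eq_mul]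
  have hneu' : ∀ z : G, z * y⁻¹ ≠ u ↔ z ≠ u * y := fun z => by rw [Ne, Ne, mul_inv_eq_iff_eq_mul]
  let T : Finset G := {1, u, x, u * x, y, u * y, x * y, u * (x * y)}
  have hT : ∀ z ∈ E, z ∈ T := by
    intro z hz
    by_contra hzT
    simp only [T, Finset.mem_insert, Finset.mem_singleton, not_or] at hzT
    obtain ⟨z1, zu, zx, zux, zy, zuy, zxy, zuxy⟩ := hzT
    have hxy1 : x * y ≠ 1 := fun e => hyux (by rw [← hxi, eq_comm]; exact inv_eq_of_mul_eq_one_right e)
    have hxyu : x * y ≠ u := fun e => hyx (by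
      rw [← hxx] at e; exact mul_left_cancel e)
    have e1 := key z hz x hx z1 zu hx1 hxu ((hne z).2 zx) ((hneu z).2 zux)
    have e2 := key z hz y hy z1 zu hy1 hyu (fun e => zy (mul_inv_eq_one.1 e)) ((hneu' z).2 zuy)
    have e3 := key z hz (x * y) (mul_mem hx hy) z1 zu hxy1 hxyu
      (fun e => zxy (mul_inv_eq_one.1 e)) (fun e => zuxy (mul_inv_eq_iff_eq_mul.1 e))
    have e4 : z * (x * y) = x * y * z := by
      calc z * (x * y) = (z * x) * y := by group
        _ = u * (x * (z * y)) := by rw [e1]; group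
        _ = u * (x * u) * (y * z) := by rw [e2]; group
        _ = x * y * z := by rw [hcomm x hx, ← mul_assoc u u, huu, one_mul]; group
    rw [e4] at e3
    have hu1 : u = 1 := by
      have := e3.symm
      rwa [mul_eq_right] at this
    exact hx1 ((hinv x hx (hxx.trans hu1)).elim id fun h => h.trans hu1)
  have : Nat.card (E : Set G) ≤ 8 := by
    rw [Nat.card_coe_set_eq]
    refine (Set.ncard_le_ncard (t := (T : Set G)) (fun z hz => hT z hz) (Set.toFinite _)).trans ?_
    rw [Set.ncard_coe_finset]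
    refine le_trans (Finset.card_insert_le _ _) (Nat.succ_le_succ ?_)
    refine le_trans (Finset.card_insert_le _ _) (Nat.succ_le_succ ?_)
    refine le_trans (Finset.card_insert_le _ _) (Nat.succ_le_succ ?_)
    refine le_trans (Finset.card_insert_le _ _) (Nat.succ_le_succ ?_)
    exact Finset.card_le_four
  exact this

/-- The arithmetic of the torus. -/
theorem torus_arith {α e q : ℕ} (he : e = 2 ∨ e = 4 ∨ e = 8) (hk : ∃ k, 2 ≤ k ∧ q = 2 ^ k)
    (hodd : Odd α) (hdvd : q + 1 ∣ α) (hle : 2 * (α - 1) ≤ e * q) (hediv : e ∣ α - 1) :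
    α = q + 1 := by
  obtain ⟨k, hk2, rfl⟩ := hk
  obtain ⟨j', rfl⟩ := Nat.exists_eq_add_of_le hk2
  rw [pow_add] at *
  set r := 2 ^ j' with hr
  obtain ⟨j, rfl⟩ := hdvd
  obtain ⟨i, hi⟩ := hodd
  rcases Nat.lt_or_ge j 5 with h5 | h5
  · interval_cases j <;> rcases he with rfl | rfl | rfl <;> omega
  · exfalso
    have : (2 ^ 2 * r + 1) * 5 ≤ (2 ^ 2 * r + 1) * j := Nat.mul_le_mul_left _ h5
    rcases he with rfl | rfl | rfl <;> omega

namespace KernelData

variable (K : KernelData G Ω a t Q n q)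

include K

theorem four_dvd : 4 ∣ q := by
  obtain ⟨k, hk, rfl⟩ := K.two_pow
  exact pow_dvd_pow 2 hk

/-- The line contains a fixed-point-free element whose centraliser in the line has order `q + 1`. -/
theorem exists_torus [Fintype G] [DecidableEq G] [Fintype Ω] [DecidableEq Ω] {L : Subgroup G}
    (hL : (L : Set G) = lineCarrier K) :
    ∃ x u : G, orderOf u = 2 ∧ u • a = a ∧ u * x * u = x⁻¹ ∧ (∀ p : Ω, x • p ≠ p) ∧
      q + 1 ∣ Nat.card (Subgroup.centralizer ({x} : Set G)) := by
  classical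
  haveI : Fintype L := Fintype.ofFinite _
  haveI : Fintype (orbit L a) := Fintype.ofFinite _
  have SL := K.swapData_line hL
  have S := K.swapData
  obtain ⟨c4, hq4⟩ := K.four_dvd
  have hq : 4 ≤ q := by
    obtain ⟨k, hk, rfl⟩ := K.two_pow
    exact le_trans (by norm_num) (Nat.pow_le_pow_right (by omega) hk)
  set F := univ.filter fun g : L => ∀ p : orbit L a, g • p ≠ p with hF
  set N : L → ℕ := fun x => (univ.filter fun v : L => orderOf v = 2 ∧ v * x * v = x⁻¹).card with hN
  have hle : ∀ x ∈ F, N x ≤ q + 1 := fun x hx =>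
    SL.inverting_le fun y hy hy1 p => SL.semiregular (mem_filter.1 hx).2 hy hy1 p
  have hsum : 2 * ∑ x ∈ F, N x = (q + 1) * (q - 1) * (q * (q - 1 + 1)) := SL.sum_inverting
  have hcardF : 2 * F.card = q * q * (q - 1) := by
    have h := SL.two_mul_fpf
    rw [SL.card_group] at h
    have : ((2 * F.card : ℕ) : ℤ) = ((q * q * (q - 1) : ℕ) : ℤ) := by
      push_cast [Nat.cast_sub (show 1 ≤ q by omega)] at h ⊢
      rw [h]; ring
    exact_mod_cast this
  have hF0 : F.Nonempty := by
    rw [← card_pos]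
    rcases Nat.eq_zero_or_pos F.card with h | h
    · rw [h, mul_zero] at hcardF
      rcases Nat.mul_eq_zero.1 hcardF.symm with h' | h'
      · rcases Nat.mul_eq_zero.1 h' with h'' | h'' <;> omega
      · omega
    · exact h
  obtain ⟨x, hx⟩ := hF0
  have hNx : N x = q + 1 := by
    by_contra hne
    have hlt : ∑ y ∈ F, N y < ∑ _y ∈ F, (q + 1) :=
      sum_lt_sum hle ⟨x, hx, lt_of_le_of_ne (hle x hx) hne⟩
    rw [sum_const, smul_eq_mul] at hlt
    have h2 : 2 * ∑ y ∈ F, N y < 2 * (F.card * (q + 1)) := by omega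
    rw [hsum, ← mul_assoc 2, hcardF, Nat.sub_add_cancel (show 1 ≤ q by omega)] at h2
    exact absurd h2 (not_lt.2 (le_of_eq (by ring)))
  simp only [hF, mem_filter, mem_univ, true_and] at hx
  obtain ⟨u, hu⟩ : ∃ u : L, orderOf u = 2 ∧ u * x * u = x⁻¹ := by
    obtain ⟨u, hu⟩ := card_pos.1 (show 0 < N x by omega)
    exact ⟨u, (mem_filter.1 hu).2⟩
  -- the centraliser inside the line
  set C := Subgroup.centralizer ({x} : Set L) with hC
  have huu : u * u = 1 := by rw [← pow_two, ← hu.1, pow_orderOf_eq_one]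
  have hCge : q + 1 ≤ Nat.card C := by
    rw [← hNx, Nat.card_eq_fintype_card, hN]
    dsimp only
    rw [← Fintype.card_coe]
    refine Fintype.card_le_of_injective (fun v => ⟨u * (v : L), ?_⟩) fun v w e =>
      Subtype.ext (mul_left_cancel (congrArg Subtype.val e))
    obtain ⟨hv1, hv2⟩ := (mem_filter.1 v.2).2
    rw [Subgroup.mem_centralizer_singleton_iff]
    have hvv : (v : L) * v = 1 := by
      rw [← pow_two]; exact orderOf_dvd_iff_pow_eq_one.1 (dvd_of_eq hv1)
    have h1 : u * x⁻¹ = x * u := by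
      rw [← hu.2, ← mul_assoc, ← mul_assoc, huu, one_mul]
    calc u * (v : L) * x = u * ((v : L) * x * v) * v := by
          simp only [mul_assoc, hvv, mul_one]
      _ = u * x⁻¹ * v := by rw [hv2]
      _ = x * (u * v) := by rw [h1, mul_assoc]
  have hCsemi : ∀ y ∈ C, y ≠ 1 → ∀ p : orbit L a, y • p ≠ p := fun y hy hy1 p =>
    SL.semiregular hx (Subgroup.mem_centralizer_singleton_iff.1 hy) hy1 p
  have hCle : Nat.card C ≤ q + 1 := by
    rw [← SL.card_points, Nat.card_eq_fintype_card]
    refine Fintype.card_le_of_injective (fun y : C => (y : L) • (⟨a, mem_orbit_self a⟩ : orbit L a))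
      fun y z e => ?_
    by_contra hne
    refine hCsemi ((z : L)⁻¹ * y) (mul_mem (inv_mem z.2) y.2)
      (fun e' => hne (Subtype.ext (inv_mul_eq_one.1 e').symm)) ⟨a, mem_orbit_self a⟩ ?_
    rw [mul_smul, inv_smul_eq_iff]
    exact e
  have hCcard : Nat.card C = q + 1 := le_antisymm hCle hCge
  -- the element has no fixed point at all
  have hCodd : Odd (Nat.card C) := by rw [hCcard]; exact ⟨2 * c4, by omega⟩
  have hfpf : ∀ p : Ω, (x : G) • p ≠ p := by
    intro p hp
    have hord : Odd (orderOf x) := SL.odd_orderOf hx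
    have hx1 : (x : G) ≠ 1 := fun e => by
      have : x = 1 := Subtype.ext e
      exact hx ⟨a, mem_orbit_self a⟩ (by rw [this, one_smul])
    have hle2 : nfix (Ω := Ω) (x : G) ≤ 2 := S.nfix_le_two hx1
    set Fx := univ.filter fun c : Ω => (x : G) • c = c with hFx
    have hyFx : ∀ y ∈ C, ∀ c ∈ Fx, (y : G) • c ∈ Fx := by
      intro y hy c hc
      simp only [hFx, mem_filter, mem_univ, true_and] at hc ⊢
      have e : (y : G) * x = x * y := congrArg Subtype.val (Subgroup.mem_centralizer_singleton_iff.1 hy)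
      rw [← mul_smul, ← e, mul_smul, hc]
    -- elements of odd order fix the (at most two) fixed points
    have hfixC : ∀ y ∈ C, ∀ c ∈ Fx, (y : G) • c = c := by
      intro y hy c hc
      by_contra hne
      have h2 : (y : G) • (y : G) • c = c := by
        by_contra hne2
        have hsub : ({c, (y : G) • c, (y : G) • (y : G) • c} : Finset Ω) ⊆ Fx := by
          intro d hd
          simp only [Finset.mem_insert, Finset.mem_singleton] at hd
          rcases hd with rfl | rfl | rfl
          exacts [hc, hyFx y hy _ hc, hyFx y hy _ (hyFx y hy _ hc)]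
        have h3 := card_le_card hsub
        have hne3 : (y : G) • (y : G) • c ≠ (y : G) • c := fun e => hne ((smul_left_cancel_iff _).1 e)
        rw [card_insert_of_notMem (by simp [Ne.symm hne, Ne.symm hne2]),
          Finset.card_pair hne3.symm] at h3
        have h4 : Fx.card ≤ 2 := hle2
        omega
      have hoy : Odd (orderOf (y : G)) := by
        rw [Subgroup.orderOf_coe]
        exact Odd.of_dvd_nat hCodd (Subgroup.orderOf_dvd_natCard C hy)
      obtain ⟨i, hi⟩ := hoy
      have h4 : ∀ j : ℕ, (y : G) ^ (2 * j) • c = c := by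
        intro j
        induction j with
        | zero => simp
        | succ j ih => rw [mul_add, pow_add, mul_smul, mul_one, pow_two, mul_smul, h2, ih]
      have h5 : (y : G) ^ (2 * (i + 1)) = y := by
        rw [show 2 * (i + 1) = orderOf (y : G) + 1 by omega, pow_succ, pow_orderOf_eq_one, one_mul]
      exact hne (by have := h4 (i + 1); rwa [h5] at this)
    have hpFx : p ∈ Fx := by simp [hFx, hp]
    have hpout : p ∉ orbit L a := fun hpL => hx ⟨p, hpL⟩ (Subtype.ext hp)
    have huG : orderOf (u : G) = 2 := by rw [Subgroup.orderOf_coe]; exact hu.1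
    have hup : (u : G) • p ∈ Fx := by
      simp only [hFx, mem_filter, mem_univ, true_and]
      have e : (u : G) * x * u = (x : G)⁻¹ := congrArg Subtype.val hu.2
      have huuG : (u : G) * u = 1 := congrArg Subtype.val huu
      have e' : (x : G) * u = u * (x : G)⁻¹ := by
        rw [← e, ← mul_assoc, ← mul_assoc, huuG, one_mul]
      rw [← mul_smul, e', mul_smul, inv_smul_eq_iff.2 hp.symm]
    have hne : (u : G) • p ≠ p := by
      intro e
      obtain ⟨c, hc⟩ := Finset.card_eq_one.1 (SL.one_fix u hu.1)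
      obtain ⟨c', hc'⟩ := Finset.card_eq_one.1 (S.one_fix _ huG)
      have h1 := congrArg (fun s : Finset (orbit L a) => c ∈ s) hc
      have h2 := congrArg (fun s : Finset Ω => (c : Ω) ∈ s) hc'
      have h3 := congrArg (fun s : Finset Ω => p ∈ s) hc'
      simp only [mem_filter, mem_univ, true_and, mem_singleton] at h1 h2 h3
      have hc1 : (u : G) • (c : Ω) = c := congrArg Subtype.val (h1.mpr trivial)
      refine hpout ?_
      rw [h3.mp e, ← h2.mp hc1]
      exact c.2
    -- `C` lands in a pair stabiliser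
    let f : C → (univ.filter fun g : G => g • (u : G) • p = (u : G) • p ∧ g • p = p) := fun y =>
      ⟨((y : L) : G), mem_filter.2 ⟨Finset.mem_univ _, hfixC y y.2 _ hup, hfixC y y.2 _ hpFx⟩⟩
    have hfinj : Function.Injective f := fun y z e => by
      have e1 : ((f y : G)) = f z := congrArg Subtype.val e
      exact Subtype.ext (Subtype.ext e1)
    have := Nat.card_le_card_of_injective f hfinj
    rw [hCcard, Nat.card_eq_finsetCard, S.card_pair _ _ hne] at this
    omega
  have hCG : q + 1 ∣ Nat.card (Subgroup.centralizer ({(x : G)} : Set G)) := by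
    rw [← hCcard]
    refine Subgroup.card_dvd_of_injective
      ({ toFun := fun y => ⟨((y : L) : G), Subgroup.mem_centralizer_singleton_iff.2
          (congrArg Subtype.val (Subgroup.mem_centralizer_singleton_iff.1 y.2))⟩
         map_one' := rfl
         map_mul' := fun _ _ => rfl } : C →* Subgroup.centralizer ({(x : G)} : Set G)) ?_
    intro y z e
    have e1 := congrArg (fun w : Subgroup.centralizer ({(x : G)} : Set G) => (w : G)) e
    exact Subtype.ext (Subtype.ext e1)
  have huG : orderOf (u : G) = 2 := by rw [Subgroup.orderOf_coe]; exact hu.1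
  obtain ⟨hu1, hu2⟩ := K.card_eq_of_involution huG
  obtain ⟨c, hc, -⟩ := RankOne.existsUnique_fixed K.setup hu1 hu2
  obtain ⟨g, hg⟩ := (RankOne.pretransitive K.setup).exists_smul_eq c a
  refine ⟨g * x * g⁻¹, g * u * g⁻¹, ?_, ?_, ?_, fun p hp => ?_, ?_⟩
  · rw [← huG]; exact (MulAut.conj g).orderOf_eq (u : G)
  · rw [← hg, mul_smul, mul_smul, inv_smul_smul, show (u : G) • c = c from hc]
  · rw [show g * (u : G) * g⁻¹ * (g * x * g⁻¹) * (g * u * g⁻¹) = g * ((u : G) * x * u) * g⁻¹ by group,
      show (u : G) * x * u = (x : G)⁻¹ from congrArg Subtype.val hu.2]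
    group
  · rw [mul_smul, mul_smul, ← eq_inv_smul_iff] at hp
    exact hfpf _ hp
  · refine hCG.trans (dvd_of_eq ?_)
    refine Nat.card_congr
      { toFun := fun y => ⟨g * y * g⁻¹, ?_⟩
        invFun := fun y => ⟨g⁻¹ * y * g, ?_⟩
        left_inv := fun y => Subtype.ext (by simp [mul_assoc])
        right_inv := fun y => Subtype.ext (by simp [mul_assoc]) }
    · rw [Subgroup.mem_centralizer_singleton_iff]
      have := Subgroup.mem_centralizer_singleton_iff.1 y.2
      calc g * (y : G) * g⁻¹ * (g * x * g⁻¹) = g * ((y : G) * x) * g⁻¹ := by group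
        _ = _ := by rw [this]; group
    · rw [Subgroup.mem_centralizer_singleton_iff]
      have h := Subgroup.mem_centralizer_singleton_iff.1 y.2
      calc g⁻¹ * (y : G) * g * (x : G) = g⁻¹ * ((y : G) * (g * x * g⁻¹)) * g := by group
        _ = g⁻¹ * ((g * x * g⁻¹) * (y : G)) * g := by rw [h]
        _ = _ := by group

set_option maxHeartbeats 1600000 in
/-- No line when `|Q| = q³`. -/
theorem no_line_cube [Finite G] (hn : n = q ^ 3) {L : Subgroup G}
    (hL : (L : Set G) = lineCarrier K) : False := by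
  classical
  haveI := RankOne.finite_points K.setup
  haveI : Fintype G := Fintype.ofFinite G
  haveI : Fintype Ω := Fintype.ofFinite Ω
  have S := K.swapData
  obtain ⟨x, u, hu, hua, hux, hx, hdvd⟩ := K.exists_torus hL
  obtain ⟨hu1, hu2⟩ := K.card_eq_of_involution hu
  have hq : 4 ≤ q := by
    obtain ⟨k, hk, rfl⟩ := K.two_pow
    exact le_trans (by norm_num) (Nat.pow_le_pow_right (by omega) hk)
  have hui : u⁻¹ = u := inv_eq_of_mul_eq_one_right hu2
  obtain ⟨huQ, huc⟩ := K.central u hua hu1 hu2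
  set A := Subgroup.centralizer ({x} : Set G) with hA
  have hmemA : ∀ y : G, y ∈ A ↔ y * x = x * y := fun y => Subgroup.mem_centralizer_singleton_iff
  have hxA : x ∈ A := (hmemA x).2 rfl
  have hAfpf : ∀ y ∈ A, y ≠ 1 → ∀ p : Ω, y • p ≠ p := fun y hy hy1 =>
    S.semiregular hx ((hmemA y).1 hy) hy1
  have hAinv : ∀ y ∈ A, u * y * u = y⁻¹ := fun y hy => S.inverts_centralizer hx hu hux ((hmemA y).1 hy)
  have hx1 : x ≠ 1 := fun e => hx a (by rw [e, one_smul])
  have hAcomm : ∀ y ∈ A, ∀ z ∈ A, y * z = z * y := by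
    intro y hy z hz
    have h := hAinv _ (mul_mem hy hz)
    rw [show u * (y * z) * u = (u * y * u) * (u⁻¹ * z * u) by
      rw [show u * y * u * (u⁻¹ * z * u) = u * (y * z) * u by group], hui, hAinv y hy, hAinv z hz,
      ← mul_inv_rev] at h
    exact (inv_injective h).symm
  have hC : ∀ y ∈ A, y ≠ 1 → ∀ g : G, g * y = y * g → g ∈ A := by
    intro y hy hy1 g hg
    rw [hmemA]
    have h1 := S.inverts_centralizer (hAfpf y hy hy1) hu (hAinv y hy) hg
    have h2 := S.inverts_centralizer (hAfpf y hy hy1) hu (hAinv y hy) ((hAcomm x hxA y hy))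
    have h3 := S.inverts_centralizer (hAfpf y hy hy1) hu (hAinv y hy)
      ((show Commute g y from hg).mul_left (show Commute x y from hAcomm x hxA y hy)).eq
    rw [show u * (g * x) * u = (u * g * u) * (u⁻¹ * x * u) by
      rw [show u * g * u * (u⁻¹ * x * u) = u * (g * x) * u by group], hui, h1, h2, ← mul_inv_rev] at h3
    exact (inv_injective h3).symm
  have hAQ : ∀ y ∈ A, y ∈ Q → y = 1 := fun y hy hyQ => by
    by_contra hy1
    exact hAfpf y hy hy1 a (K.setup.le hyQ)
  have hodd : Odd (Nat.card A) := by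
    by_contra hev
    rw [Nat.not_odd_iff_even, even_iff_two_dvd] at hev
    haveI : Fact (Nat.Prime 2) := ⟨Nat.prime_two⟩
    obtain ⟨⟨w, hw⟩, hw2⟩ := exists_prime_orderOf_dvd_card' 2 hev
    rw [Subgroup.orderOf_mk] at hw2
    obtain ⟨c, hc⟩ := Finset.card_eq_one.1 (S.one_fix w hw2)
    have := congrArg (fun s : Finset Ω => c ∈ s) hc
    simp only [mem_filter, mem_univ, true_and, mem_singleton] at this
    exact hAfpf w hw (K.card_eq_of_involution hw2).1 c (this.mpr trivial)
  -- the part of the normaliser fixing `a`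
  set E := Subgroup.normalizer (A : Set G) ⊓ Q with hE
  have hnorm : ∀ e ∈ E, ∀ b ∈ A, e * b * e⁻¹ ∈ A := fun e he b hb =>
    ((Subgroup.mem_normalizer_iff.1 (Subgroup.mem_inf.1 he).1) b).1 hb
  have huE : u ∈ E := Subgroup.mem_inf.2 ⟨Subgroup.mem_normalizer_iff.2 fun b => by
    refine ⟨fun hb => ?_, fun hb => ?_⟩
    · rw [hui, hAinv b hb]; exact inv_mem hb
    · have := hAinv _ hb
      rw [hui, show u * (u * b * u) * u = (u * u) * b * (u * u) by group, hu2, one_mul, mul_one] at this
      rw [this, ← hui, ← hui]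
      exact inv_mem (by simpa [hui] using hb), huQ⟩
  have hfree : ∀ e ∈ E, ∀ b ∈ A, b ≠ 1 → e * b * e⁻¹ = b → e = 1 := fun e he b hb hb1 heq =>
    hAQ e (hC b hb hb1 e (mul_inv_eq_iff_eq_mul.1 heq)) (Subgroup.mem_inf.1 he).2
  have hediv := card_dvd_of_free A E hnorm hfree
  have hEinv : ∀ w ∈ E, w * w = 1 → w = 1 ∨ w = u := by
    intro w hw hw2
    by_cases hw1 : w = 1
    · exact Or.inl hw1
    refine Or.inr ?_
    have hwi : w⁻¹ = w := inv_eq_of_mul_eq_one_right hw2
    -- `w` inverts `x`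
    have hinj : Function.Injective
        (fun b : A => (⟨(b : G)⁻¹ * (w * b * w⁻¹), mul_mem (inv_mem b.2) (hnorm w hw b b.2)⟩ : A)) := by
      intro b c e
      have e' : (b : G)⁻¹ * (w * b * w⁻¹) = (c : G)⁻¹ * (w * c * w⁻¹) := congrArg Subtype.val e
      by_contra hne
      refine hw1 (hfree w hw ((c : G) * (b : G)⁻¹) (mul_mem c.2 (inv_mem b.2))
        (fun h => hne (Subtype.ext (mul_inv_eq_one.1 h).symm)) ?_)
      calc w * ((c : G) * (b : G)⁻¹) * w⁻¹ = (w * c * w⁻¹) * (w * b * w⁻¹)⁻¹ := by group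
        _ = c * ((c : G)⁻¹ * (w * c * w⁻¹)) * ((b : G) * ((b : G)⁻¹ * (w * b * w⁻¹)))⁻¹ := by group
        _ = c * (b : G)⁻¹ := by
            rw [e', mul_inv_rev (b : G), ← mul_assoc, mul_inv_cancel_right]
    obtain ⟨b, hb⟩ := (Finite.surjective_of_injective hinj) ⟨x, hxA⟩
    have hb' : (b : G)⁻¹ * (w * b * w⁻¹) = x := congrArg Subtype.val hb
    have hwx : w * x * w⁻¹ = x⁻¹ := by
      calc w * x * w⁻¹ = w * ((b : G)⁻¹ * (w * b * w⁻¹)) * w⁻¹ := by rw [hb']
        _ = (w * b * w⁻¹)⁻¹ * ((w * w) * b * (w * w)⁻¹) := by group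
        _ = (w * b * w⁻¹)⁻¹ * b := by rw [hw2, inv_one, mul_one, one_mul]
        _ = x⁻¹ := by rw [← hb']; group
    have hux' : x * u = u * x⁻¹ := by rw [← hux, ← mul_assoc, ← mul_assoc, hu2, one_mul]
    have hwu : w * u ∈ A := by
      rw [hmemA]
      calc w * u * x = w * (u * x * u) * u := by rw [mul_assoc, mul_assoc, mul_assoc, mul_assoc, hu2, mul_one]
        _ = w * x⁻¹ * u := by rw [hux]
        _ = (w * x * w⁻¹)⁻¹ * w * u := by group
        _ = x * (w * u) := by rw [hwx, inv_inv, mul_assoc]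
    have := hAQ _ hwu (mul_mem (Subgroup.mem_inf.1 hw).2 huQ)
    rw [← hui]
    exact eq_inv_of_mul_eq_one_left this
  have he8 : Nat.card E ≤ 8 :=
    card_le_eight E u (fun e he => K.exp_four e (Subgroup.mem_inf.1 he).2) hEinv
      (fun e he => (huc e (Subgroup.mem_inf.1 he).2).symm)
  haveI : Fact (Nat.Prime 2) := ⟨Nat.prime_two⟩
  obtain ⟨i, hi⟩ := (K.two_group.to_le (inf_le_right : E ≤ Q)).exists_card_eq
  have he : Nat.card E = 2 ∨ Nat.card E = 4 ∨ Nat.card E = 8 := by
    have h2 : 2 ∣ Nat.card E := by rw [← hu]; exact Subgroup.orderOf_dvd_natCard E huE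
    rw [hi] at h2 he8 ⊢
    have : i < 4 := by
      by_contra h
      have := Nat.pow_le_pow_right (show 0 < 2 by omega) (not_lt.1 h)
      omega
    interval_cases i
    · norm_num at h2
    all_goals norm_num
  -- good partners of `u`
  set good := univ.filter fun v : G => orderOf v = 2 ∧ ∀ p : Ω, (u * v) • p ≠ p with hgood
  have hgoodc : 2 * good.card = n * q := by
    have h := S.two_mul_good hu
    rwa [Nat.sub_add_cancel (show 1 ≤ q by omega)] at h
  have hbound : Nat.card Q * (Nat.card A - 1) ≤ Nat.card E * good.card := by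
    let src : Finset (G × G) := (univ.filter fun w : G => w ∈ Q) ×ˢ (univ.filter fun b : G => b ∈ A ∧ b ≠ 1)
    let f : G × G → G := fun p => u * (p.1 * p.2 * p.1⁻¹)
    have hmaps : ∀ p ∈ src, f p ∈ good := by
      rintro ⟨w, b⟩ hp
      simp only [src, mem_product, mem_filter, mem_univ, true_and] at hp
      obtain ⟨hw, hb, hb1⟩ := hp
      have hwu : u * w = w * u := huc w hw
      have hbfix : ∀ p : Ω, (w * b * w⁻¹) • p ≠ p := fun p hp => by
        rw [mul_smul, mul_smul, ← eq_inv_smul_iff] at hp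
        exact hAfpf b hb hb1 _ hp
      have hwi : w⁻¹ * u = u * w⁻¹ := by
        rw [inv_mul_eq_iff_eq_mul, ← mul_assoc, ← hwu, mul_inv_cancel_right]
      simp only [f, hgood, mem_filter, mem_univ, true_and]
      refine ⟨orderOf_eq_prime ?_ ?_, fun p => ?_⟩
      · calc (u * (w * b * w⁻¹)) ^ 2 = (u * w) * b * (w⁻¹ * u) * w * b * w⁻¹ := by rw [pow_two]; group
          _ = w * (u * b * u) * b * w⁻¹ := by rw [hwi, hwu]; group
          _ = 1 := by rw [hAinv b hb]; group
      · intro e
        have h1 : u = w * b * w⁻¹ := by rw [← hui]; exact inv_eq_of_mul_eq_one_right e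
        exact hbfix a (by rw [← h1]; exact hua)
      · rw [← mul_assoc, hu2, one_mul]
        exact hbfix p
    have hfib : ∀ v ∈ good, (src.filter fun p => f p = v).card ≤ Nat.card E := by
      intro v _
      rcases Finset.eq_empty_or_nonempty (src.filter fun p => f p = v) with h0 | ⟨⟨w₀, b₀⟩, h0⟩
      · rw [h0]; simp
      rw [Nat.card_eq_fintype_card, Fintype.card_subtype]
      simp only [src, mem_filter, mem_product, mem_univ, true_and] at h0
      obtain ⟨⟨hw₀, hb₀, hb₀1⟩, hv₀⟩ := h0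
      refine card_le_card_of_injOn (fun p => w₀⁻¹ * p.1) ?_ ?_
      · rintro ⟨w, b⟩ hp
        simp only [src, coe_filter, mem_product, mem_filter, mem_univ, true_and, Set.mem_setOf_eq] at hp ⊢
        obtain ⟨⟨hw, hb, -⟩, hv⟩ := hp
        have e : (w₀⁻¹ * w) * b * (w₀⁻¹ * w)⁻¹ = b₀ := by
          have h := mul_left_cancel (hv.trans hv₀.symm)
          calc (w₀⁻¹ * w) * b * (w₀⁻¹ * w)⁻¹ = w₀⁻¹ * (w * b * w⁻¹) * w₀ := by group
            _ = w₀⁻¹ * (w₀ * b₀ * w₀⁻¹) * w₀ := by rw [h]
            _ = b₀ := by group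
        set ε := w₀⁻¹ * w with hε
        have hbne : b ≠ 1 := fun h => hb₀1 (by rw [← e, h, mul_one, mul_inv_cancel])
        refine Subgroup.mem_inf.2 ⟨Subgroup.mem_normalizer_iff.2 fun c => ⟨fun hc => ?_, fun hc => ?_⟩,
          mul_mem (inv_mem hw₀) hw⟩
        · refine hC b₀ hb₀ hb₀1 _ ?_
          rw [← e]
          calc ε * c * ε⁻¹ * (ε * b * ε⁻¹) = ε * (c * b) * ε⁻¹ := by group
            _ = _ := by rw [hAcomm c hc b hb]; group
        · refine hC b hb hbne _ ?_
          have h := hAcomm _ hc b₀ hb₀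
          rw [← e] at h
          calc c * b = ε⁻¹ * (ε * c * ε⁻¹ * (ε * b * ε⁻¹)) * ε := by group
            _ = ε⁻¹ * (ε * b * ε⁻¹ * (ε * c * ε⁻¹)) * ε := by rw [h]
            _ = _ := by group
      · rintro ⟨w, b⟩ hp ⟨w', b'⟩ hp' e
        simp only [src, coe_filter, mem_product, mem_filter, mem_univ, true_and, Set.mem_setOf_eq] at hp hp'
        have hww : w = w' := mul_left_cancel e
        subst hww
        have := mul_left_cancel (hp.2.trans hp'.2.symm)
        exact Prod.ext rfl (mul_left_cancel (mul_right_cancel this))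
    have h := card_le_mul_card_image_of_maps_to (f := f) hmaps (Nat.card E) hfib
    refine le_trans (le_of_eq ?_) h
    rw [card_product]
    congr 1
    · rw [Nat.card_eq_fintype_card, Fintype.card_subtype]
    · rw [Nat.card_eq_fintype_card, Fintype.card_subtype,
        show (univ.filter fun b : G => b ∈ A ∧ b ≠ 1) = (univ.filter fun b : G => b ∈ A).erase 1 by
          ext b; simp [and_comm], card_erase_of_mem (by simp [one_mem])]
  have hApos : 0 < Nat.card A := Nat.card_pos
  have hQpos : 0 < Nat.card Q := Nat.card_pos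
  have hle : 2 * (Nat.card A - 1) ≤ Nat.card E * q := by
    refine Nat.le_of_mul_le_mul_left ?_ hQpos
    calc Nat.card Q * (2 * (Nat.card A - 1)) = 2 * (Nat.card Q * (Nat.card A - 1)) := by ring
      _ ≤ 2 * (Nat.card E * good.card) := Nat.mul_le_mul_left 2 hbound
      _ = Nat.card Q * (Nat.card E * q) := by rw [mul_left_comm, hgoodc, K.card_Q]; ring
  have hA1 : Nat.card A = q + 1 := torus_arith he K.two_pow hodd hdvd hle hediv
  -- Sylow counting at a prime dividing `q + 1`
  set p := (q + 1).minFac with hp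
  haveI : Fact p.Prime := ⟨Nat.minFac_prime (by omega)⟩
  have hpd : p ∣ q + 1 := Nat.minFac_dvd _
  obtain ⟨⟨y, hy⟩, hyord⟩ := exists_prime_orderOf_dvd_card' (G := A) p (hA1.symm ▸ hpd)
  rw [Subgroup.orderOf_mk] at hyord
  have hy1 : y ≠ 1 := fun e => by
    rw [e, orderOf_one] at hyord
    exact (Fact.out : p.Prime).ne_one hyord.symm
  obtain ⟨P, hP⟩ := IsPGroup.exists_le_sylow (p := p) (P := Subgroup.zpowers y)
    (IsPGroup.iff_card.2 ⟨1, by rw [Nat.card_zpowers, hyord, pow_one]⟩)
  have hyP : y ∈ (P : Subgroup G) := hP (Subgroup.mem_zpowers y)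
  have hPA : (P : Subgroup G) ≤ A := by
    haveI : Nontrivial (P : Subgroup G) := ⟨⟨⟨y, hyP⟩, 1, fun e => hy1 (congrArg Subtype.val e)⟩⟩
    haveI := P.2.center_nontrivial
    obtain ⟨⟨⟨z, hzP⟩, hzc⟩, hz1⟩ := _root_.exists_ne (1 : Subgroup.center (P : Subgroup G))
    have hzy : z * y = y * z :=
      (congrArg Subtype.val (Subgroup.mem_center_iff.1 hzc ⟨y, hyP⟩)).symm
    have hzA : z ∈ A := hC y hy hy1 z hzy
    intro w hw
    exact hC z hzA (fun e => hz1 (Subtype.ext (Subtype.ext e))) w
      (congrArg Subtype.val (Subgroup.mem_center_iff.1 hzc ⟨w, hw⟩))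
  set M := Subgroup.normalizer (A : Set G) with hM
  have hPM : Subgroup.normalizer ((P : Subgroup G) : Set G) = M := by
    refine le_antisymm (fun g hg => ?_) (fun g hg => ?_)
    · have hgy : g * y * g⁻¹ ∈ A := hPA ((Subgroup.mem_normalizer_iff.1 hg y).1 hyP)
      have hgy1 : g * y * g⁻¹ ≠ 1 := fun e => hy1 (by rwa [mul_inv_eq_one, mul_eq_left] at e)
      rw [hM, Subgroup.mem_normalizer_iff]
      refine fun c => ⟨fun hc => hC _ hgy hgy1 _ ?_, fun hc => hC y hy hy1 c ?_⟩
      · calc g * c * g⁻¹ * (g * y * g⁻¹) = g * (c * y) * g⁻¹ := by group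
          _ = _ := by rw [hAcomm c hc y hy]; group
      · calc c * y = g⁻¹ * ((g * c * g⁻¹) * (g * y * g⁻¹)) * g := by group
          _ = g⁻¹ * ((g * y * g⁻¹) * (g * c * g⁻¹)) * g := by rw [hAcomm _ hc _ hgy]
          _ = _ := by group
    · set P' : Subgroup G := (P : Subgroup G).map (MulAut.conj g).toMonoidHom with hP'
      have hP'A : P' ≤ A := by
        rintro _ ⟨w, hw, rfl⟩
        exact ((Subgroup.mem_normalizer_iff.1 hg) w).1 (hPA hw)
      have hnorm' : P' ≤ Subgroup.normalizer ((P : Subgroup G) : Set G) := by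
        intro w hw
        rw [Subgroup.mem_normalizer_iff]
        intro c
        refine ⟨fun hc => ?_, fun hc => ?_⟩
        · rw [hAcomm w (hP'A hw) c (hPA hc), mul_inv_cancel_right]; exact hc
        · have hc' := hPA hc
          have : c = w * c * w⁻¹ := by
            have h := hAcomm w⁻¹ (inv_mem (hP'A hw)) _ hc'
            calc c = w⁻¹ * (w * c * w⁻¹) * w := by group
              _ = (w * c * w⁻¹) * w⁻¹ * w := by rw [h]
              _ = _ := by group
          rw [this]; exact hc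
      have hsup : IsPGroup p ↥(P' ⊔ (P : Subgroup G)) :=
        IsPGroup.to_sup_of_normal_right' (P.2.map _) P.2 hnorm'
      have he' : P' ⊔ (P : Subgroup G) = P := P.3 hsup le_sup_right
      have hP'eq : P' = (P : Subgroup G) := by
        refine Subgroup.eq_of_le_of_card_ge (le_sup_left.trans he'.le) ?_
        rw [hP', Subgroup.card_map_of_injective (MulAut.conj g).injective]
      rw [Subgroup.mem_normalizer_iff]
      intro c
      refine ⟨fun hc => hP'eq ▸ ⟨c, hc, rfl⟩, fun hc => ?_⟩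
      rw [← hP'eq] at hc
      obtain ⟨c', hc', e⟩ := hc
      have : c' = c := (MulAut.conj g).injective (by simpa using e)
      rwa [← this]
  -- the order of the normaliser
  have hMcard : Nat.card M = Nat.card A * Nat.card E := by
    rw [← Nat.card_prod]
    refine (Nat.card_eq_of_bijective
      (fun p : A × E => (⟨(p.1 : G) * p.2, mul_mem (Subgroup.le_normalizer p.1.2)
        (Subgroup.mem_inf.1 p.2.2).1⟩ : M)) ⟨?_, ?_⟩).symm
    · rintro ⟨b, e⟩ ⟨b', e'⟩ h
      have h' : (b : G) * e = b' * e' := congrArg Subtype.val h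
      have h2 : (b' : G)⁻¹ * b = (e' : G) * (e : G)⁻¹ := by
        rw [eq_mul_inv_iff_mul_eq, mul_assoc, h', inv_mul_cancel_left]
      have h3 := hAQ _ (mul_mem (inv_mem b'.2) b.2)
        (h2 ▸ mul_mem (Subgroup.mem_inf.1 e'.2).2 (inv_mem (Subgroup.mem_inf.1 e.2).2))
      rw [inv_mul_eq_one] at h3
      rw [← h3] at h'
      rw [Subtype.ext h3.symm, Subtype.ext (mul_left_cancel h')]
    · rintro ⟨g, hg⟩
      set v := g * u * g⁻¹ with hv
      have hv2 : orderOf v = 2 := by rw [← hu]; exact (MulAut.conj g).orderOf_eq u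
      have hgx : g⁻¹ * x * g ∈ A := by
        refine ((Subgroup.mem_normalizer_iff.1 hg) _).2 ?_
        rwa [show g * (g⁻¹ * x * g) * g⁻¹ = x by group]
      have hvx : v * x * v = x⁻¹ := by
        rw [hv, show g * u * g⁻¹ * x * (g * u * g⁻¹) = g * (u * (g⁻¹ * x * g) * u) * g⁻¹ by group,
          hAinv _ hgx]
        group
      have huv : u * v ∈ A := by
        rw [hmemA]
        have hvv : v * v = 1 := (K.card_eq_of_involution hv2).2
        calc u * v * x = u * (v * x * v) * v := by simp only [mul_assoc, hvv, mul_one]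
          _ = u * (u * x * u) * v := by rw [hvx, hux]
          _ = x * (u * v) := by simp only [← mul_assoc, hu2, one_mul]
      -- square root of `u v` in the odd group `A`
      obtain ⟨k, hk⟩ := RankOne.exists_sqrt (X := A) hodd (inv_mem huv)
      set b := ((u * v)⁻¹) ^ k with hb
      have hbA : b ∈ A := pow_mem (inv_mem huv) k
      have hfix : b⁻¹ * v * b = u := by
        have hvu : v = u * (b⁻¹ * b⁻¹) := by
          rw [← mul_inv_rev, hk, inv_inv, ← mul_assoc, hu2, one_mul]
        have hub : b⁻¹ * u = u * b := by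
          have h := hAinv b⁻¹ (inv_mem hbA)
          rw [inv_inv] at h
          calc b⁻¹ * u = u * (u * b⁻¹ * u) := by
                rw [← mul_assoc, ← mul_assoc, hu2, one_mul]
            _ = u * b := by rw [h]
        rw [hvu, ← mul_assoc, hub]
        group
      have hcom : (b⁻¹ * g) * u = u * (b⁻¹ * g) := by
        calc (b⁻¹ * g) * u = (b⁻¹ * v * b) * (b⁻¹ * g) := by rw [hv]; group
          _ = u * (b⁻¹ * g) := by rw [hfix]
      refine ⟨(⟨b, hbA⟩, ⟨b⁻¹ * g, Subgroup.mem_inf.2 ⟨mul_mem (inv_mem (Subgroup.le_normalizer hbA)) hg,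
        K.mem_of_commute hua hu1 hu2 hcom⟩⟩), Subtype.ext (mul_inv_cancel_left b g)⟩
  have hsyl := card_sylow_modEq_one p G
  rw [Sylow.card_eq_index_normalizer P] at hsyl
  replace hsyl : M.index ≡ 1 [MOD p] := by rw [← hPM]; exact hsyl
  have hidx : M.index * Nat.card E = q ^ 3 * (q - 1) * (q * q - q + 1) := by
    have h := M.index_mul_card
    rw [hMcard, hA1, K.card_group, hn] at h
    refine Nat.eq_of_mul_eq_mul_left (show 0 < q + 1 by omega) ?_
    rw [show (q + 1) * (M.index * Nat.card E) = M.index * ((q + 1) * Nat.card E) by ring, h]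
    have h1 : q ^ 3 + 1 = (q + 1) * (q * q - q + 1) := by
      zify [Nat.le_mul_self q]
      ring
    rw [h1]
    ring
  have hqz : (q : ZMod p) = -1 := by
    have h0 : ((q + 1 : ℕ) : ZMod p) = 0 := (ZMod.natCast_eq_zero_iff _ _).2 hpd
    push_cast at h0
    exact eq_neg_of_add_eq_zero_left h0
  have hidx1 : (M.index : ZMod p) = 1 := by
    rw [← Nat.cast_one]
    exact (ZMod.natCast_eq_natCast_iff _ _ _).2 hsyl
  have h := congrArg (fun m : ℕ => (m : ZMod p)) hidx
  push_cast [Nat.cast_sub (show 1 ≤ q by omega), Nat.cast_sub (Nat.le_mul_self q)] at h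
  rw [hidx1, hqz] at h
  norm_num at h
  have hpodd : p ≠ 2 := fun e => by
    have : 2 ∣ q + 1 := e ▸ hpd
    obtain ⟨c, hc⟩ := K.four_dvd
    omega
  have h6 : ((Nat.card E : ℕ) : ZMod p) = ((6 : ℕ) : ZMod p) := by
    rw [Nat.card_eq_fintype_card, h]; norm_num
  rw [ZMod.natCast_eq_natCast_iff] at h6
  have h2p := (Fact.out : p.Prime).two_le
  rcases he with e | e | e <;> rw [e] at h6
  · have h7 : p ∣ 6 - 2 := (Nat.modEq_iff_dvd' (by norm_num)).1 h6
    exact hpodd ((Nat.prime_dvd_prime_iff_eq Fact.out Nat.prime_two).1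
      ((Fact.out : p.Prime).dvd_of_dvd_pow (n := 2) h7))
  · have h7 : p ∣ 6 - 4 := (Nat.modEq_iff_dvd' (by norm_num)).1 h6
    exact hpodd ((Nat.prime_dvd_prime_iff_eq Fact.out Nat.prime_two).1 h7)
  · have h7 : p ∣ 8 - 6 := (Nat.modEq_iff_dvd' (by norm_num)).1 h6.symm
    exact hpodd ((Nat.prime_dvd_prime_iff_eq Fact.out Nat.prime_two).1 h7)

/-- A triangle gives a line for a suitable involution. -/
theorem exists_line_of_triangle [Finite G] {s u : G} (hs : s ∈ stabilizer G a) (hs1 : s ≠ 1)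
    (hs2 : s * s = 1) (hu : u * u = 1) (hua : u • a ≠ a) (hbr : u * s * u = s * u * s) :
    ∃ (v : G) (K' : KernelData G Ω a v Q n q) (L : Subgroup G), (L : Set G) = lineCarrier K' :=
  ⟨u, K.reroot hu hua, (K.reroot hu hua).exists_line hs hs1 hs2 hbr⟩

/-- The kernel has order `q²` and `q` is an odd power of two. -/
theorem suzuki_order [Finite G] : n = q ^ 2 ∧ ∃ m, 1 ≤ m ∧ q = 2 ^ (2 * m + 1) := by
  classical
  haveI := RankOne.finite_points K.setup
  obtain ⟨k, hk, hqk⟩ := K.two_pow
  have hq : 4 ≤ q := by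
    rw [hqk]; exact le_trans (by norm_num) (Nat.pow_le_pow_right (by omega) hk)
  -- a line forces `|Q| = q³`, which is impossible
  have hnoline : ∀ (v : G) (K' : KernelData G Ω a v Q n q) (L : Subgroup G),
      (L : Set G) = lineCarrier K' → False := by
    intro v K' L hL
    rcases K'.degree with hn | hn
    · have hdvd := Subgroup.card_subgroup_dvd_card L
      rw [K'.card_line hL, K'.card_group, hn] at hdvd
      have hdvd2 : q + 1 ∣ q ^ 2 * (q - 1) * (q ^ 2 + 1) := (dvd_mul_left _ _).trans hdvd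
      obtain ⟨c, hc⟩ := K.four_dvd
      have h2z : ((q : ℤ) + 1) ∣ 4 := by
        have h := Int.natCast_dvd_natCast.2 hdvd2
        push_cast [Nat.cast_sub (show 1 ≤ q by omega)] at h
        obtain ⟨d, hd⟩ := h
        exact ⟨((q : ℤ) ^ 4 - 2 * (q : ℤ) ^ 3 + 3 * (q : ℤ) ^ 2 - 4 * q + 4) - d,
          by linear_combination -hd⟩
      have := Int.le_of_dvd (by norm_num) h2z
      omega
    · exact K'.no_line_cube hn hL
  have htri : ∀ {s u : G}, s ∈ stabilizer G a → s ≠ 1 → s * s = 1 → u * u = 1 → u • a ≠ a →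
      u * s * u = s * u * s → False := fun hs hs1 hs2 hu hua hbr => by
    obtain ⟨v, K', L, hL⟩ := K.exists_line_of_triangle hs hs1 hs2 hu hua hbr
    exact hnoline v K' L hL
  have h3 : ¬ 3 ∣ Nat.card ↥(stabilizer G a ⊓ stabilizer G (t • a)) := fun h => by
    obtain ⟨s, u, hs, hs1, hs2, hu, hua, hbr⟩ := K.triangle_of_three_dvd h
    exact htri hs hs1 hs2 hu hua hbr
  obtain ⟨m, hm | hm⟩ : ∃ m, k = 2 * m ∨ k = 2 * m + 1 := ⟨k / 2, by omega⟩
  · exfalso
    refine h3 ?_
    have hc := K.card_pair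
    rw [hqk, hm, pow_mul] at hc
    have h := Nat.sub_dvd_pow_sub_pow (2 ^ 2) 1 m
    rw [one_pow, ← hc, Nat.add_sub_cancel] at h
    simpa using h
  obtain ⟨s, hs, hs1, hs2, h | h⟩ := K.structure_order
  · exfalso
    refine htri hs hs1 hs2 K.setup.mul_self K.setup.not_mem ?_
    have hsi : s⁻¹ = s := inv_eq_of_mul_eq_one_right hs2
    have e : t * s * t * s * t * s = 1 := by
      rw [← h, pow_succ, pow_two]; group
    calc t * s * t = t * s * t * s * t * s * (s⁻¹ * t⁻¹ * s⁻¹) := by group
      _ = s * t * s := by rw [e, one_mul, hsi, K.t_inv]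
  refine ⟨?_, m, by omega, by rw [hqk, hm]⟩
  rcases K.degree with hn | hn
  · exact hn
  exfalso
  have hdvd : orderOf (t * s) ∣ Nat.card G := orderOf_dvd_natCard _
  rw [h, K.card_group, hn] at hdvd
  have hq5 : (q : ZMod 5) = 2 ∨ (q : ZMod 5) = 3 := by
    rw [hqk, hm, pow_succ, pow_mul]
    push_cast
    rw [show (4 : ZMod 5) = -1 by decide]
    rcases neg_one_pow_eq_or (ZMod 5) m with e | e <;> rw [e] <;> decide
  have h0 : ((q ^ 3 * (q - 1) * (q ^ 3 + 1) : ℕ) : ZMod 5) = 0 :=
    (ZMod.natCast_eq_zero_iff _ _).2 hdvd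
  push_cast [Nat.cast_sub (show 1 ≤ q by omega)] at h0
  rcases hq5 with e | e <;> rw [e] at h0 <;> revert h0 <;> decide

end KernelData

end CfsgLib.Zassenhaus
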