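import Cfsg.Agent.Perm.RegularNormal
import Cfsg.Agent.Characters.FrobeniusKernel
import Cfsg.Agent.ThompsonFpf.Nilpotency
import Cfsg.Agent.FrobComp.SylowStructure
import Mathlib

/-!
A doubly transitive group with a regular normal subgroup, trivial three-point stabilisers and non-trivial
two-point stabilisers has degree `2 ^ p`, `p` prime.
-/

set_option autoImplicit false
set_option linter.unusedSectionVars false
set_option linter.style.haveILetI false

open scoped IsMulCommutative

namespace CfsgLib.Zassenhaus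

open MulAction

variable {G : Type*} [Group G]

/-- Conjugation on a commutative normal subgroup, as endomorphisms. -/
def conjEnd (N : Subgroup G) [N.Normal] [IsMulCommutative N] : G →* AddMonoid.End (Additive N) where
  toFun g := MonoidHom.toAdditive (MulAut.conjNormal g).toMonoidHom
  map_one' := by ext z; simp; rfl
  map_mul' g h := by ext z; simp; rfl

theorem conjEnd_apply (N : Subgroup G) [N.Normal] [IsMulCommutative N] (g : G) (z : Additive N) :
    ((conjEnd N g z).toMul : G) = g * (z.toMul : G) * g⁻¹ := rfl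

/-- A regular abelian semilinear configuration: an element of prime order fixing only `0` and `m`
of a cyclic group transitive on the non-zero vectors forces `|V| = 2 ^ p`. -/
theorem card_eq_two_pow {V : Type*} [AddCommGroup V] [Finite V] (h2 : ∀ v : V, v + v = 0)
    {K : Type*} [Group K] [Finite K] (hK : ∀ x y : K, x * y = y * x)
    (ρ : K →* AddMonoid.End V) {m : V} (hm : m ≠ 0) (htr : ∀ v : V, v ≠ 0 → ∃ k, ρ k m = v)
    (σ : AddMonoid.End V) {r : ℕ} [Fact r.Prime] (hr : σ ^ r = 1)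
    (hnorm : ∀ k, ∃ k', σ * ρ k = ρ k' * σ) (hσm : σ m = m)
    (hfix : ∀ v, σ v = v → v = 0 ∨ v = m) (hσ1 : ∃ v, σ v ≠ v) :
    Nat.card V = 2 ^ r := by
  classical
  set R := Subring.closure (Set.range ρ) with hR
  have hcomm : ∀ x ∈ Set.range ρ, ∀ y ∈ Set.range ρ, x * y = y * x := by
    rintro _ ⟨a, rfl⟩ _ ⟨b, rfl⟩
    rw [← map_mul, hK, map_mul]
  letI : CommRing R := Subring.closureCommRingOfComm hcomm
  -- evaluation at `m`
  let ev : R → V := fun x => (x : AddMonoid.End V) m
  have hρR : ∀ k, ρ k ∈ R := fun k => Subring.subset_closure ⟨k, rfl⟩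
  have hinj : Function.Injective ev := by
    intro x y hxy
    refine Subtype.ext (DFunLike.ext _ _ fun v => ?_)
    by_cases hv : v = 0
    · rw [hv, map_zero, map_zero]
    · obtain ⟨k, rfl⟩ := htr v hv
      have hx := congrArg (fun e : R => (e : AddMonoid.End V) m) (mul_comm x ⟨ρ k, hρR k⟩)
      have hy := congrArg (fun e : R => (e : AddMonoid.End V) m) (mul_comm y ⟨ρ k, hρR k⟩)
      show (x : AddMonoid.End V) (ρ k m) = (y : AddMonoid.End V) (ρ k m)
      refine hx.trans (Eq.trans ?_ hy.symm)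
      exact congrArg (ρ k) hxy
  have hsurj : Function.Surjective ev := by
    intro v
    by_cases hv : v = 0
    · exact ⟨0, hv ▸ rfl⟩
    · obtain ⟨k, rfl⟩ := htr v hv
      exact ⟨⟨ρ k, hρR k⟩, rfl⟩
  haveI : Finite R := Finite.of_injective ev hinj
  haveI : Nontrivial R := ⟨⟨1, 0, fun h => hm (congrArg ev h)⟩⟩
  have hfield : IsField R := by
    refine ⟨exists_pair_ne R, mul_comm, fun {x} hx => ?_⟩
    have hv : ev x ≠ 0 := fun h => hx (hinj (h.trans (show (0 : V) = ev 0 from rfl)))
    obtain ⟨k, hk⟩ := htr _ hv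
    have hxk : x = ⟨ρ k, hρR k⟩ := hinj hk.symm
    refine ⟨⟨ρ k⁻¹, hρR _⟩, ?_⟩
    rw [hxk]
    apply Subtype.ext
    show ρ k * ρ k⁻¹ = 1
    rw [← map_mul, mul_inv_cancel, map_one]
  letI : Field R := hfield.toField
  -- `σ` acts on the field
  obtain ⟨σ', hσσ', hσ'σ⟩ : ∃ σ' : AddMonoid.End V, σ * σ' = 1 ∧ σ' * σ = 1 := by
    obtain ⟨j, hj⟩ : ∃ j, r = j + 1 := ⟨r - 1, by have := (Fact.out : r.Prime).two_le; omega⟩
    exact ⟨σ ^ j, by rw [← pow_succ', ← hj, hr], by rw [← pow_succ, ← hj, hr]⟩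
  have hcl : ∀ x ∈ R, σ * x * σ' ∈ R := by
    intro x hx
    induction hx using Subring.closure_induction with
    | mem y hy =>
      obtain ⟨k, rfl⟩ := hy
      obtain ⟨k', hk'⟩ := hnorm k
      rw [hk', mul_assoc, hσσ', mul_one]
      exact hρR k'
    | zero => rw [mul_zero, zero_mul]; exact zero_mem _
    | one => rw [mul_one, hσσ']; exact one_mem _
    | add a b _ _ ha hb => rw [mul_add, add_mul]; exact add_mem ha hb
    | neg a _ ha => rw [mul_neg, neg_mul]; exact neg_mem ha
    | mul a b _ _ ha hb =>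
      rw [show σ * (a * b) * σ' = (σ * a * σ') * (σ * b * σ') by
        simp only [mul_assoc]; rw [← mul_assoc σ' σ, hσ'σ, one_mul]]
      exact mul_mem ha hb
  let f : R →+* R :=
    { toFun := fun x => ⟨σ * (x : AddMonoid.End V) * σ', hcl x x.2⟩
      map_one' := Subtype.ext (by simp [hσσ'])
      map_zero' := Subtype.ext (by simp)
      map_add' := fun a b => Subtype.ext (by simp [mul_add, add_mul])
      map_mul' := fun a b => Subtype.ext (by
        show σ * ((a : AddMonoid.End V) * b) * σ' = σ * a * σ' * (σ * b * σ')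
        simp only [mul_assoc]; rw [← mul_assoc σ' σ, hσ'σ, one_mul]) }
  let e : R ≃+* R := RingEquiv.ofBijective f
    (Finite.injective_iff_bijective.1 f.injective)
  haveI : CharP R 2 := by
    refine CharTwo.of_one_ne_zero_of_two_eq_zero one_ne_zero ?_
    rw [← one_add_one_eq_two]
    exact hinj ((h2 m).trans (show (0 : V) = ev 0 from rfl))
  letI : Algebra (ZMod 2) R := ZMod.algebra R 2
  let τ : R ≃ₐ[ZMod 2] R := AlgEquiv.ofRingEquiv (f := e) fun c =>
    congrArg (fun φ : ZMod 2 →+* R => φ c)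
      (Subsingleton.elim ((e : R →+* R).comp (algebraMap (ZMod 2) R)) (algebraMap (ZMod 2) R))
  have hev : ∀ x : R, ev (τ x) = σ (ev x) := by
    intro x
    have hσ'm : σ' m = m := by
      have h := congrArg (fun ψ : AddMonoid.End V => ψ m) hσ'σ
      simp only [AddMonoid.End.coe_mul, Function.comp_apply, AddMonoid.End.coe_one, id_eq, hσm] at h
      exact h
    show σ ((x : AddMonoid.End V) (σ' m)) = _
    rw [hσ'm]
  have hτpow : ∀ (i : ℕ) (x : R), ev ((τ ^ i) x) = (σ ^ i) (ev x) := by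
    intro i
    induction i with
    | zero => intro x; simp
    | succ i ih =>
      intro x
      rw [pow_succ, pow_succ, AlgEquiv.mul_apply, ih, hev]
      rfl
  have hτr : τ ^ r = 1 := AlgEquiv.ext fun x => hinj (by rw [hτpow, hr]; rfl)
  have hτ1 : τ ≠ 1 := by
    intro h
    obtain ⟨v, hv⟩ := hσ1
    obtain ⟨x, rfl⟩ := hsurj v
    exact hv (by rw [← hev, h]; rfl)
  have hord : Nat.card (Subgroup.zpowers τ) = r := by
    rw [Nat.card_zpowers, orderOf_eq_prime hτr hτ1]
  have hbot : IntermediateField.fixedField (Subgroup.zpowers τ) = ⊥ := by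
    rw [eq_bot_iff]
    intro x hx
    have h1 : τ x = x := hx ⟨τ, Subgroup.mem_zpowers τ⟩
    rcases hfix (ev x) (by rw [← hev, h1]) with h | h
    · rw [show x = 0 from hinj (h.trans (show (0 : V) = ev 0 from rfl))]
      exact zero_mem _
    · rw [show x = 1 from hinj (h.trans (show m = ev 1 from rfl))]
      exact one_mem _
  have hrank : Module.finrank (ZMod 2) R = r := by
    have := IntermediateField.finrank_fixedField_eq_card (Subgroup.zpowers τ)
    rwa [hbot, IntermediateField.finrank_bot', hord] at this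
  rw [← Nat.card_eq_of_bijective ev ⟨hinj, hsurj⟩, Module.natCard_eq_pow_finrank (K := ZMod 2), hrank,
    Nat.card_zmod]

theorem degree_two_pow {Ω : Type*} [MulAction G Ω] [Finite Ω] [FaithfulSMul G Ω]
    (h2 : IsMultiplyPretransitive G Ω 2)
    (h3 : ∀ g : G, ∀ a b c : Ω, a ≠ b → b ≠ c → a ≠ c → g • a = a → g • b = b → g • c = c → g = 1)
    (hfix : ∃ g : G, g ≠ 1 ∧ ∃ a b : Ω, a ≠ b ∧ g • a = a ∧ g • b = b)
    (N : Subgroup G) [N.Normal] (hNt : IsPretransitive N Ω) (hNr : ∀ a : Ω, stabilizer N a = ⊥) :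
    ∃ p : ℕ, p.Prime ∧ Nat.card Ω = 2 ^ p := by
  classical
  haveI := hNt
  haveI : Finite G := Finite.of_injective _ (MulAction.toPerm_injective (α := G) (β := Ω))
  obtain ⟨g₀, hg₀, a, b, hab, hga, hgb⟩ := hfix
  haveI : Nontrivial Ω := ⟨⟨a, b, hab⟩⟩
  obtain ⟨q, j, hq, -, -, hNc, hNq⟩ := Perm.RegularNormal.elementary N h2 hNr
  haveI : IsMulCommutative N := ⟨⟨hNc⟩⟩
  obtain ⟨m, hmb⟩ := IsPretransitive.exists_smul_eq (M := N) a b
  have hNeq : ∀ n n' : N, n • a = n' • a → n = n' := fun n n' h =>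
    Perm.RegularNormal.smul_injective N hNr a h
  have hconj : ∀ g : G, g • a = a → ∀ n : N, (MulAut.conjNormal g n) • a = g • n • a := fun g hg n =>
    Perm.RegularNormal.conj_smul N hg n
  have hm1 : m ≠ 1 := fun h => hab (by rw [← hmb, h, one_smul])
  -- `q = 2`
  have hm2 : m * m = 1 := by
    by_contra hmm
    have hgm : MulAut.conjNormal g₀ m = m := hNeq _ _ (by rw [hconj g₀ hga, hmb, hgb])
    refine hg₀ (h3 g₀ a b ((m * m) • a) hab ?_ (fun h => hmm (hNeq _ _ ?_)) hga hgb ?_)
    · intro h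
      apply hab
      rw [mul_smul, hmb] at h
      have h' : m • a = m • b := hmb.trans h
      exact (smul_left_cancel_iff m).1 h'
    · rw [one_smul]; exact h.symm
    · rw [← hconj g₀ hga, map_mul, hgm]
  have hN2 : ∀ n : N, n * n = 1 := by
    have hqd : q ∣ 2 := by
      haveI := Fact.mk hq
      have e := orderOf_eq_prime (hNq m) hm1
      rw [← e]
      exact orderOf_dvd_of_pow_eq_one (by rw [pow_two]; exact hm2)
    have hq2 : q = 2 := (Nat.prime_dvd_prime_iff_eq hq Nat.prime_two).1 hqd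
    intro n
    rw [← pow_two, ← hq2]; exact hNq n
  -- the Frobenius group `G_a` on the other points
  set M := stabilizer G a with hM
  set H : Subgroup M := (stabilizer G a ⊓ stabilizer G b).subgroupOf M with hH
  have hHmem : ∀ x : M, x ∈ H ↔ (x : G) • b = b := fun x =>
    ⟨fun h => (Subgroup.mem_inf.1 h).2, fun h => Subgroup.mem_inf.2 ⟨x.2, h⟩⟩
  have hmal : ∀ g : M, g ∉ H → ∀ x ∈ H, g * x * g⁻¹ ∈ H → x = 1 := by
    intro g hg x hx hgx
    rw [hHmem] at hx hgx
    refine Subtype.ext (h3 x a b ((g : G)⁻¹ • b) hab ?_ ?_ x.2 hx ?_)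
    · intro h
      exact hg ((hHmem g).2 (eq_inv_smul_iff.1 h))
    · intro h
      exact hab ((eq_inv_smul_iff.1 h).symm.trans g.2).symm |> False.elim
    · have h1 : ((g : G) * (x : G) * (g : G)⁻¹) • b = b := hgx
      rw [mul_smul, mul_smul, ← eq_inv_smul_iff] at h1
      exact h1
  obtain ⟨K, hKn, hKc, hKmem⟩ := Characters.exists_frobenius_kernel H hmal
  have hKfix : ∀ x ∈ K, x ≠ 1 → ∀ c : Ω, c ≠ a → (x : G) • c ≠ c := by
    intro x hx hx1 c hca hc
    obtain ⟨g, hgA, hgB⟩ := is_two_pretransitive_iff.1 h2 hab (Ne.symm hca)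
    refine hx1 ((hKmem x).1 hx ⟨g, hgA⟩ ?_)
    rw [hHmem]
    show ((g : G)⁻¹ * (x : G) * g) • b = b
    rw [mul_smul, mul_smul, hgB, hc, ← hgB, inv_smul_smul]
  have hKtr : ∀ c : Ω, c ≠ a → ∃ x ∈ K, (x : G) • b = c := by
    intro c hc
    obtain ⟨g, hgA, hgB⟩ := is_two_pretransitive_iff.1 h2 hab (Ne.symm hc)
    obtain ⟨⟨⟨n, hn⟩, ⟨h, hh⟩⟩, e⟩ := hKc.2 ⟨g, hgA⟩
    refine ⟨n, hn, ?_⟩
    have e' : (n : G) * (h : G) = g := congrArg Subtype.val e
    rw [← hgB, ← e', mul_smul, (hHmem h).1 hh]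
  -- an element of prime order fixing `a` and `b`
  obtain ⟨r, hr, hrd⟩ := Nat.exists_prime_and_dvd (n := Nat.card H) (by
    intro e
    have h1 : (⟨g₀, hga⟩ : M) ∈ H := (hHmem _).2 hgb
    rw [Subgroup.eq_bot_of_card_eq H e, Subgroup.mem_bot] at h1
    exact hg₀ (congrArg Subtype.val h1))
  haveI : Fact r.Prime := ⟨hr⟩
  obtain ⟨⟨h, hh⟩, hord⟩ := exists_prime_orderOf_dvd_card' r hrd
  rw [Subgroup.orderOf_mk] at hord
  have hhb : (h : G) • b = b := (hHmem h).1 hh
  have hha : (h : G) • a = a := h.2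
  have hh1 : (h : G) ≠ 1 := fun e => by
    rw [← Subgroup.orderOf_coe, e, orderOf_one] at hord
    exact hr.ne_one hord.symm
  have hhr : h ^ r = 1 := by rw [← hord]; exact pow_orderOf_eq_one h
  have hcentK : K ⊓ Subgroup.centralizer ({h} : Set M) = ⊥ := by
    rw [eq_bot_iff]
    intro x hx
    obtain ⟨hxK, hxh⟩ := Subgroup.mem_inf.1 hx
    rw [Subgroup.mem_centralizer_singleton_iff] at hxh
    by_contra hx1
    rw [Subgroup.mem_bot] at hx1
    have hxb : (x : G) • b ≠ b := hKfix x hxK hx1 b hab.symm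
    have hxa : (x : G) • b ≠ a := fun e => hab ((smul_left_cancel_iff (x : G)).1
      ((show (x : G) • a = a from x.2).trans e.symm))
    refine hh1 (h3 h a b ((x : G) • b) hab (Ne.symm hxb) (Ne.symm hxa) hha hhb ?_)
    rw [← mul_smul, show (h : G) * (x : G) = (x : G) * h from congrArg Subtype.val hxh.symm,
      mul_smul, hhb]
  haveI : Group.IsNilpotent K := ThompsonFpf.isNilpotent_of_conj (p := r) K h
    (by rw [Subgroup.normalizer_eq_top]; exact Subgroup.mem_top h) hhr hcentK
  -- the action on `N`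
  let ρ : K →* AddMonoid.End (Additive N) := (conjEnd N).comp (M.subtype.comp K.subtype)
  have hρ : ∀ (x : K) (n : N), (ρ x (Additive.ofMul n)).toMul • a = ((x : M) : G) • n • a :=
    fun x n => hconj _ (x : M).2 n
  have hfree : FrobComp.IsFree ρ := by
    intro x hx v hv
    obtain ⟨n, rfl⟩ := Additive.ofMul.surjective v
    by_contra hn
    have hna : n • a ≠ a := fun e => hn (by rw [hNeq n 1 (by rw [e, one_smul])]; rfl)
    refine hKfix x x.2 (fun e => hx (Subtype.ext e)) _ hna ?_
    rw [← hρ, hv]; rfl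
  haveI : Nontrivial (Additive N) := ⟨⟨Additive.ofMul m, 0, fun e => hm1 e⟩⟩
  have hKodd : ¬ 2 ∣ Nat.card K := by
    intro hd
    haveI : Fact (Nat.Prime 2) := ⟨Nat.prime_two⟩
    obtain ⟨x, hx⟩ := exists_prime_orderOf_dvd_card' 2 hd
    have hx1 : x ≠ 1 := fun e => by rw [e, orderOf_one] at hx; omega
    set v := Additive.ofMul m
    have hxx : ρ x (ρ x v) = v := by
      have : ρ (x * x) = 1 := by rw [← pow_two, ← hx, pow_orderOf_eq_one, map_one]
      rw [map_mul] at this
      exact congrArg (fun ψ : AddMonoid.End (Additive N) => ψ v) this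
    have hsum := hfree x hx1 (v + ρ x v) (by rw [map_add, hxx, add_comm])
    refine hm1 (hfree x hx1 v ?_)
    have hvv : v + v = 0 := hN2 m
    exact add_left_cancel (hsum.trans hvv.symm)
  haveI : IsZGroup K := ⟨fun s hs P => by
    haveI := Fact.mk hs
    by_cases hs2 : s = 2
    · have hP : (P : Subgroup K) = ⊥ := by
        obtain ⟨k, hk⟩ := IsPGroup.iff_card.1 P.2
        rcases Nat.eq_zero_or_pos k with rfl | hk0
        · exact Subgroup.eq_bot_of_card_eq _ (by simpa using hk)
        · have h1 := Subgroup.card_subgroup_dvd_card (P : Subgroup K)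
          rw [hk, hs2] at h1
          exact absurd ((dvd_pow_self 2 hk0.ne').trans h1) hKodd
      rw [hP]; infer_instance
    · exact FrobComp.isCyclic_of_free_of_odd hfree hs2 P.2⟩
  haveI : IsCyclic K := inferInstance
  letI : CommGroup K := IsCyclic.commGroup
  refine ⟨r, hr, ?_⟩
  rw [← Perm.RegularNormal.card_eq N hNr a]
  have htr : ∀ v : Additive N, v ≠ 0 → ∃ k : K, ρ k (Additive.ofMul m) = v := by
    intro v hv
    obtain ⟨n, rfl⟩ := Additive.ofMul.surjective v
    have hna : n • a ≠ a := fun e => hv (by rw [hNeq n 1 (by rw [e, one_smul])]; rfl)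
    obtain ⟨x, hx, hxb⟩ := hKtr _ hna
    refine ⟨⟨x, hx⟩, Additive.toMul.injective (hNeq _ _ ?_)⟩
    rw [hρ, hmb]; exact hxb
  have hσm : conjEnd N (h : G) (Additive.ofMul m) = Additive.ofMul m :=
    Additive.toMul.injective (hNeq _ _ (by
      show (MulAut.conjNormal (h : G) m) • a = m • a
      rw [hconj _ hha, hmb, hhb]))
  refine (card_eq_two_pow (V := Additive N) (K := K) (fun v => hN2 v.toMul) (fun x y => mul_comm x y)
    ρ (m := Additive.ofMul m) (fun e => hm1 e) htr (conjEnd N (h : G)) (r := r) ?_ ?_ hσm ?_ ?_)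
  · rw [← map_pow, ← Subgroup.coe_pow, hhr, Subgroup.coe_one, map_one]
  · intro k
    refine ⟨⟨h * k * h⁻¹, hKn.conj_mem k k.2 h⟩, ?_⟩
    show conjEnd N (h : G) * conjEnd N ((k : M) : G) =
      conjEnd N ((h * k * h⁻¹ : M) : G) * conjEnd N (h : G)
    rw [← map_mul, ← map_mul]
    congr 1
    simp only [Subgroup.coe_mul, Subgroup.coe_inv, inv_mul_cancel_right]
  · intro v hv
    obtain ⟨n, rfl⟩ := Additive.ofMul.surjective v
    by_contra hno
    push Not at hno
    have hna : n • a ≠ a := fun e => hno.1 (by rw [hNeq n 1 (by rw [e, one_smul])]; rfl)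
    have hnb : n • a ≠ b := fun e => hno.2 (by rw [hNeq n m (e.trans hmb.symm)])
    refine hh1 (h3 h a b (n • a) hab (Ne.symm hnb) (Ne.symm hna) hha hhb ?_)
    rw [← hconj _ hha]
    exact congrArg (fun z : N => z • a) (congrArg Additive.toMul hv)
  · by_contra hall
    push Not at hall
    apply hh1
    refine eq_of_smul_eq_smul (α := Ω) fun c => ?_
    obtain ⟨n, rfl⟩ := IsPretransitive.exists_smul_eq (M := N) a c
    rw [one_smul, ← hconj _ hha]
    exact congrArg (fun z : N => z • a) (congrArg Additive.toMul (hall (Additive.ofMul n)))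

end CfsgLib.Zassenhaus
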