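import Mathlib

/-!
Counting the involution pairs with fixed-point-free product in a group acting with at most two fixed points,
all involutions fixing exactly one point and every pair of points being interchanged by `h` involutions.

* `two_mul_good`: each involution has `n (h + 1) / 2` partners with fixed-point-free product.
* `two_mul_fpf`: the number of fixed-point-free elements.
* `inverting_le`: at most `n + 1` involutions invert a fixed-point-free element whose centraliser is semiregular.
-/

set_option autoImplicit false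
set_option linter.unusedSectionVars false

namespace CfsgLib.Zassenhaus

open Finset

variable {G Ω : Type*} [Group G] [Fintype G] [DecidableEq G] [MulAction G Ω] [Fintype Ω] [DecidableEq Ω]

/-- The number of fixed points. -/
def nfix (g : G) : ℕ := (univ.filter fun c : Ω => g • c = c).card

/-- Permutation data of degree `n + 1` with pair stabilisers of order `h` and `h` swaps for every pair. -/
structure SwapData (G Ω : Type*) [Group G] [Fintype G] [DecidableEq G] [MulAction G Ω] [Fintype Ω]
    [DecidableEq Ω] (n h : ℕ) : Prop where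
  card_points : Fintype.card Ω = n + 1
  pretransitive : MulAction.IsPretransitive G Ω
  card_group : Fintype.card G = n * h * (n + 1)
  card_pair : ∀ c d : Ω, c ≠ d → (univ.filter fun g : G => g • c = c ∧ g • d = d).card = h
  three : ∀ g : G, ∀ a b c : Ω, a ≠ b → b ≠ c → a ≠ c → g • a = a → g • b = b → g • c = c → g = 1
  one_fix : ∀ v : G, orderOf v = 2 → nfix (Ω := Ω) v = 1
  swaps : ∀ p p' : Ω, (univ.filter fun v : G => orderOf v = 2 ∧ v • p = p').card = h

namespace SwapData

variable {n h : ℕ} (S : SwapData G Ω n h)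

include S

theorem nfix_le_two {g : G} (hg : g ≠ 1) : nfix (Ω := Ω) g ≤ 2 := by
  by_contra hlt
  obtain ⟨a, ha, b, hb, c, hc, hab, hac, hbc⟩ := Finset.two_lt_card.1 (not_le.1 hlt)
  simp only [mem_filter, mem_univ, true_and] at ha hb hc
  exact hg (S.three g a b c hab hbc hac ha hb hc)

theorem card_involutions : (univ.filter fun v : G => orderOf v = 2).card = (n + 1) * h := by
  calc (univ.filter fun v : G => orderOf v = 2).card
      = ∑ v ∈ univ.filter (fun v : G => orderOf v = 2), nfix (Ω := Ω) v := by
        rw [card_eq_sum_ones]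
        exact sum_congr rfl fun v hv => (S.one_fix v (mem_filter.1 hv).2).symm
    _ = ∑ c : Ω, (univ.filter fun v : G => orderOf v = 2 ∧ v • c = c).card := by
        rw [show (∑ v ∈ univ.filter (fun v : G => orderOf v = 2), nfix (Ω := Ω) v) =
          ∑ v ∈ univ.filter (fun v : G => orderOf v = 2),
            ((univ : Finset Ω).bipartiteAbove (fun v c => v • c = c) v).card from rfl,
          sum_card_bipartiteAbove_eq_sum_card_bipartiteBelow]
        exact sum_congr rfl fun c _ => by rw [bipartiteBelow, filter_filter]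
    _ = (n + 1) * h := by
        simp_rw [S.swaps, sum_const, card_univ, S.card_points, smul_eq_mul]

theorem inv_apply {v : G} (hv : orderOf v = 2) (p : Ω) : v • v • p = p := by
  rw [← mul_smul, ← pow_two, ← hv, pow_orderOf_eq_one, one_smul]

theorem inv_inv {v : G} (hv : orderOf v = 2) : v⁻¹ = v :=
  inv_eq_of_mul_eq_one_right (by rw [← pow_two, ← hv, pow_orderOf_eq_one])

/-- The partners of an involution with fixed-point-free product. -/
theorem two_mul_good {u : G} (hu : orderOf u = 2) :
    2 * (univ.filter fun v : G => orderOf v = 2 ∧ ∀ p : Ω, (u * v) • p ≠ p).card = n * (h + 1) := by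
  classical
  set I := univ.filter fun v : G => orderOf v = 2 with hI
  set F : G → Finset Ω := fun v => univ.filter fun p : Ω => v • p = u • p with hF
  have hFu : ∀ v : G, ∀ p : Ω, p ∈ F v ↔ (u * v) • p = p := fun v p => by
    simp only [hF, mem_filter, mem_univ, true_and, mul_smul]
    constructor
    · intro e; rw [e, S.inv_apply hu]
    · intro e; rw [← S.inv_apply hu (v • p), e]
  obtain ⟨c, hc⟩ := Finset.card_eq_one.1 (S.one_fix u hu)
  have hcfix : ∀ p : Ω, u • p = p ↔ p = c := fun p => by
    have := congrArg (fun s : Finset Ω => p ∈ s) hc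
    simpa using this
  -- all incidences
  have htot : ∑ v ∈ I, (F v).card = (n + 1) * h := by
    rw [show (∑ v ∈ I, (F v).card) =
        ∑ v ∈ I, ((univ : Finset Ω).bipartiteAbove (fun v p => v • p = u • p) v).card from rfl,
      sum_card_bipartiteAbove_eq_sum_card_bipartiteBelow,
      sum_congr rfl fun p _ => show (bipartiteBelow (fun v p => v • p = u • p) I p).card = h by
        rw [bipartiteBelow, hI, filter_filter]; exact S.swaps p (u • p)]
    simp [S.card_points]
  set A := I.filter fun v => v • c = c with hA
  set B := I.filter fun v => ¬ v • c = c with hB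
  have hAc : A.card = h := by
    rw [hA, hI, filter_filter]
    exact S.swaps c c
  have huA : u ∈ A := by simp [hA, hI, hu, (hcfix c).2 rfl]
  -- the incidences inside `A`
  have hAsum : ∑ v ∈ A, (F v).card + 1 = (n + 1) + h := by
    rw [← add_sum_erase A _ huA]
    have hFu' : (F u).card = n + 1 := by simp [hF, S.card_points]
    have hrest : ∀ v ∈ A.erase u, (F v).card = 1 := by
      intro v hv
      obtain ⟨hvu, hvA⟩ := mem_erase.1 hv
      simp only [hA, hI, mem_filter, mem_univ, true_and] at hvA
      refine card_eq_one.2 ⟨c, eq_singleton_iff_unique_mem.2 ⟨?_, fun p hp => ?_⟩⟩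
      · simp [hF, hvA.2, (hcfix c).2 rfl]
      · have h1 : (u * v) • c = c := by rw [mul_smul, hvA.2, (hcfix c).2 rfl]
        have h2 := (hFu v p).1 hp
        by_contra hpc
        have hp' : v • p = u • p := by simpa [hF] using hp
        have h3 : (u * v) • u • p = u • p := by
          rw [← hp', mul_smul, S.inv_apply hvA.1, hp']
        refine hvu ?_
        have hne1 : c ≠ p := Ne.symm hpc
        have hne2 : p ≠ u • p := fun e => hpc ((hcfix p).1 e.symm)
        have hne3 : c ≠ u • p := fun e => hpc (by rw [← S.inv_apply hu p, ← e, (hcfix c).2 rfl])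
        have h4 := S.three (u * v) c p (u • p) hne1 hne2 hne3 h1 h2 h3
        rw [← inv_eq_of_mul_eq_one_right h4, S.inv_inv hu]
    have h1 : ∑ v ∈ A.erase u, (F v).card = (A.erase u).card := by
      rw [card_eq_sum_ones]; exact sum_congr rfl hrest
    rw [h1, hFu', card_erase_of_mem huA, hAc]
    have : 1 ≤ h := hAc ▸ card_pos.2 ⟨u, huA⟩
    omega
  -- outside `A` the number of incidences is `0` or `2`
  have hBval : ∀ v ∈ B, (F v).card = if ∀ p : Ω, (u * v) • p ≠ p then 0 else 2 := by
    intro v hv
    simp only [hB, hI, mem_filter, mem_univ, true_and] at hv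
    by_cases hgood : ∀ p : Ω, (u * v) • p ≠ p
    · rw [if_pos hgood, card_eq_zero, eq_empty_iff_forall_notMem]
      exact fun p hp => hgood p ((hFu v p).1 hp)
    rw [if_neg hgood]
    push Not at hgood
    obtain ⟨p, hp⟩ := hgood
    have hp' := (hFu v p).2 hp
    simp only [hF, mem_filter, mem_univ, true_and] at hp'
    have hq : v • u • p = u • u • p := by rw [← hp', S.inv_apply hv.1, hp', S.inv_apply hu]
    have hne : p ≠ u • p := fun e => by
      have := (hcfix p).1 e.symm
      subst this
      exact hv.2 (hp'.trans e.symm)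
    have h2 : ({p, u • p} : Finset Ω) ⊆ F v := by
      intro x hx
      simp only [mem_insert, mem_singleton] at hx
      rcases hx with rfl | rfl <;> simp [hF, hp', hq]
    have h3 := card_le_card h2
    rw [Finset.card_pair hne] at h3
    have hne1 : u * v ≠ 1 := fun e => hv.2 (by
      have hvu : v = u := by rw [← inv_eq_of_mul_eq_one_right e, S.inv_inv hu]
      rw [hvu]; exact (hcfix c).2 rfl)
    have h4 : (F v).card ≤ 2 := by
      rw [show F v = univ.filter fun p : Ω => (u * v) • p = p from Finset.ext fun p => by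
        rw [hFu]; simp]
      exact S.nfix_le_two hne1
    omega
  have hsplit : ∑ v ∈ A, (F v).card + ∑ v ∈ B, (F v).card = (n + 1) * h := by
    rw [hA, hB, sum_filter_add_sum_filter_not, htot]
  have hBc : B.card = n * h := by
    have := card_filter_add_card_filter_not (s := I) (fun v => v • c = c)
    rw [hI, S.card_involutions, ← hI, ← hA, ← hB, hAc, add_mul, one_mul] at this
    omega
  rw [sum_congr rfl hBval, sum_ite, sum_const_zero, zero_add, sum_const, smul_eq_mul] at hsplit
  have hgoodB : (univ.filter fun v : G => orderOf v = 2 ∧ ∀ p : Ω, (u * v) • p ≠ p) =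
      B.filter fun v => ∀ p : Ω, (u * v) • p ≠ p := by
    ext v
    simp only [hB, hI, mem_filter, mem_univ, true_and]
    refine ⟨fun hv => ⟨⟨hv.1, fun e => hv.2 c ?_⟩, hv.2⟩, fun hv => ⟨hv.1.1, hv.2⟩⟩
    rw [mul_smul, e, (hcfix c).2 rfl]
  rw [hgoodB]
  have hpart := card_filter_add_card_filter_not (s := B) (fun v => ∀ p : Ω, (u * v) • p ≠ p)
  rw [hBc] at hpart
  rw [add_mul, one_mul] at hsplit
  rw [mul_add, mul_one]
  omega

/-- The number of fixed-point-free elements. -/
theorem two_mul_fpf :
    2 * ((univ.filter fun g : G => ∀ p : Ω, g • p ≠ p).card : ℤ) =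
      Fintype.card G + 2 * n - (n + 1) * n := by
  classical
  have := S.pretransitive
  have h1 : ∑ g : G, (nfix (Ω := Ω) g : ℤ) = Fintype.card G := by
    have key : ∑ g : G, nfix (Ω := Ω) g = Fintype.card G := by
      have hrw : ∀ g : G, nfix (Ω := Ω) g = Fintype.card (MulAction.fixedBy Ω g) := fun g => by
        rw [nfix, ← Set.toFinset_card]
        congr 1
        ext c
        simp [MulAction.mem_fixedBy]
      simp only [hrw]
      rw [MulAction.sum_card_fixedBy_eq_card_orbits_mul_card_group]
      haveI : Nonempty Ω := Fintype.card_pos_iff.1 (by rw [S.card_points]; omega)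
      haveI : Subsingleton (Quotient (MulAction.orbitRel G Ω)) := ⟨fun x y => by
        induction x using Quotient.inductionOn with
        | h x => induction y using Quotient.inductionOn with
          | h y => exact Quotient.sound (by
              obtain ⟨g, hg⟩ := MulAction.exists_smul_eq G y x
              exact ⟨g, hg⟩)⟩
      haveI : Nonempty (Quotient (MulAction.orbitRel G Ω)) := ⟨Quotient.mk _ (Classical.arbitrary Ω)⟩
      rw [Fintype.card_eq_one_iff.2 ⟨Classical.arbitrary _, fun x => Subsingleton.elim _ _⟩, one_mul]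
    exact_mod_cast key
  have h2 : ∑ g : G, ((nfix (Ω := Ω) g : ℤ) * (nfix (Ω := Ω) g - 1)) = Fintype.card G := by
    have key : ∑ g : G, ((univ.filter fun c : Ω => g • c = c).offDiag).card = n * h * (n + 1) := by
      have hsub : ∀ g : G, (univ.filter fun c : Ω => g • c = c).offDiag =
          (univ : Finset Ω).offDiag.filter fun p => g • p.1 = p.1 ∧ g • p.2 = p.2 := by
        intro g; ext p; simp [mem_offDiag]; tauto
      simp only [hsub]
      rw [show (∑ g : G, ((univ : Finset Ω).offDiag.filter fun p => g • p.1 = p.1 ∧ g • p.2 = p.2).card) =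
        ∑ g ∈ (univ : Finset G), ((univ : Finset Ω).offDiag.bipartiteAbove
          (fun g p => g • p.1 = p.1 ∧ g • p.2 = p.2) g).card from rfl,
        sum_card_bipartiteAbove_eq_sum_card_bipartiteBelow,
        sum_congr rfl fun p hp => show (bipartiteBelow (fun (g : G) (p : Ω × Ω) => g • p.1 = p.1 ∧
          g • p.2 = p.2) univ p).card = h from S.card_pair p.1 p.2 (mem_offDiag.1 hp).2.2,
        sum_const, smul_eq_mul, offDiag_card, card_univ, S.card_points]
      rw [add_mul, one_mul, add_tsub_cancel_right]
      ring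
    rw [S.card_group, ← key, Nat.cast_sum]
    refine sum_congr rfl fun g _ => ?_
    rw [offDiag_card, Nat.cast_sub (Nat.le_mul_self _), Nat.cast_mul, nfix]
    ring
  have h3 : ∀ g : G, g ≠ 1 → (2 - 2 * (nfix (Ω := Ω) g : ℤ) + nfix (Ω := Ω) g * (nfix (Ω := Ω) g - 1)) =
      if (∀ p : Ω, g • p ≠ p) then 2 else 0 := by
    intro g hg
    have hle := S.nfix_le_two hg
    by_cases hf : ∀ p : Ω, g • p ≠ p
    · rw [if_pos hf, show nfix (Ω := Ω) g = 0 by
        rw [nfix, card_eq_zero, eq_empty_iff_forall_notMem]
        exact fun p hp => hf p (mem_filter.1 hp).2]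
      norm_num
    · rw [if_neg hf]
      push Not at hf
      obtain ⟨p, hp⟩ := hf
      have hpos : 0 < nfix (Ω := Ω) g := card_pos.2 ⟨p, by simp [hp]⟩
      interval_cases (nfix (Ω := Ω) g) <;> norm_num
  have hsum : ∑ g : G, (2 - 2 * (nfix (Ω := Ω) g : ℤ) + nfix (Ω := Ω) g * (nfix (Ω := Ω) g - 1)) =
      Fintype.card G := by
    rw [sum_add_distrib, sum_sub_distrib, ← Finset.mul_sum, h1, h2, sum_const, card_univ, nsmul_eq_mul]
    ring
  have h1fix : nfix (Ω := Ω) (1 : G) = n + 1 := by simp [nfix, S.card_points]
  rw [← add_sum_erase univ _ (mem_univ (1 : G)), h1fix,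
    sum_congr rfl fun g hg => h3 g (ne_of_mem_erase hg)] at hsum
  have hfe : (univ.erase (1 : G)).filter (fun g => ∀ p : Ω, g • p ≠ p) =
      univ.filter fun g : G => ∀ p : Ω, g • p ≠ p := by
    ext g
    simp only [mem_filter, mem_erase, mem_univ, true_and, and_true]
    refine ⟨fun hg => hg.2, fun hg => ⟨fun e => ?_, hg⟩⟩
    haveI : Nonempty Ω := Fintype.card_pos_iff.1 (by rw [S.card_points]; omega)
    exact hg (Classical.arbitrary Ω) (by rw [e, one_smul])
  rw [sum_ite, sum_const_zero, add_zero, sum_const, nsmul_eq_mul, hfe] at hsum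
  push_cast at hsum
  linear_combination hsum

/-- An element with semiregular centraliser is inverted by at most `n + 1` involutions. -/
theorem inverting_le {x : G}
    (hC : ∀ y : G, y * x = x * y → y ≠ 1 → ∀ p : Ω, y • p ≠ p) :
    (univ.filter fun v : G => orderOf v = 2 ∧ v * x * v = x⁻¹).card ≤ n + 1 := by
  classical
  rw [← S.card_points, ← card_univ (α := Ω)]
  have hne : ∀ v : G, orderOf v = 2 → (univ.filter fun c : Ω => v • c = c).Nonempty := fun v hv =>
    card_pos.1 (by rw [show (univ.filter fun c : Ω => v • c = c).card = 1 from S.one_fix v hv]; exact one_pos)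
  haveI : Nonempty Ω := Fintype.card_pos_iff.1 (by rw [S.card_points]; omega)
  let f : G → Ω := fun v => if hv : orderOf v = 2 then (hne v hv).choose else Classical.arbitrary Ω
  refine card_le_card_of_injOn f (fun _ _ => mem_univ _) ?_
  intro v hv w hw e
  simp only [coe_filter, mem_univ, true_and, Set.mem_setOf_eq] at hv hw
  have hfv : v • f v = f v := by
    simp only [f, dif_pos hv.1]
    exact (mem_filter.1 (hne v hv.1).choose_spec).2
  have hfw : w • f w = f w := by
    simp only [f, dif_pos hw.1]
    exact (mem_filter.1 (hne w hw.1).choose_spec).2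
  by_contra hvw
  refine hC (v * w) ?_ (fun h1 => hvw (by
    rw [← inv_eq_of_mul_eq_one_left h1, S.inv_inv hw.1])) (f w) ?_
  · have e1 : v * w * x * (w * v) = x := by
      calc v * w * x * (w * v) = v * (w * x * w) * v := by simp only [mul_assoc]
        _ = v * x⁻¹ * v := by rw [hw.2]
        _ = (v * x * v)⁻¹ := by rw [mul_inv_rev, mul_inv_rev, S.inv_inv hv.1, mul_assoc]
        _ = x := by rw [hv.2, _root_.inv_inv]
    have e2 : w * v = (v * w)⁻¹ := by rw [mul_inv_rev, S.inv_inv hv.1, S.inv_inv hw.1]
    rw [e2, mul_inv_eq_iff_eq_mul] at e1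
    exact e1
  · rw [mul_smul, hfw, ← e, hfv]

end SwapData

end CfsgLib.Zassenhaus

namespace CfsgLib.Zassenhaus

open Finset

namespace SwapData

variable {G Ω : Type*} [Group G] [Fintype G] [DecidableEq G] [MulAction G Ω] [Fintype Ω] [DecidableEq Ω]
variable {n h : ℕ} (S : SwapData G Ω n h)

include S

/-- A fixed-point-free element has odd order. -/
theorem odd_orderOf {x : G} (hx : ∀ p : Ω, x • p ≠ p) : Odd (orderOf x) := by
  by_contra hev
  rw [Nat.not_odd_iff_even] at hev
  obtain ⟨m, hm⟩ := hev
  have hpos : 0 < orderOf x := orderOf_pos x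
  have hw : orderOf (x ^ m) = 2 := by
    have h1 : (x ^ m) ^ 2 = 1 := by rw [← pow_mul, mul_two, ← hm, pow_orderOf_eq_one]
    exact orderOf_eq_prime h1 (pow_ne_one_of_lt_orderOf (by omega) (by omega))
  obtain ⟨c, hc⟩ := Finset.card_eq_one.1 (S.one_fix _ hw)
  have hcc : (x ^ m) • c = c := by
    have := congrArg (fun s : Finset Ω => c ∈ s) hc
    simpa using this
  have hxc : (x ^ m) • x • c = x • c := by
    rw [← mul_smul, ← pow_succ, pow_succ', mul_smul, hcc]
  have := congrArg (fun s : Finset Ω => x • c ∈ s) hc
  simp only [mem_filter, mem_univ, true_and, mem_singleton] at this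
  exact hx c (this.mp hxc)

/-- The centraliser of a fixed-point-free element is semiregular. -/
theorem semiregular {x : G} (hx : ∀ p : Ω, x • p ≠ p) {y : G} (hxy : y * x = x * y) (hy : y ≠ 1)
    (p : Ω) : y • p ≠ p := by
  intro hp
  have hstab : ∀ i : ℕ, y • (x ^ i • p) = x ^ i • p := fun i => by
    rw [← mul_smul, (Commute.pow_right (show Commute y x from hxy) i).eq, mul_smul, hp]
  obtain ⟨m, hm⟩ := S.odd_orderOf hx
  have h1 : x • p ≠ p := hx p
  have h2 : x • x • p ≠ x • p := fun e => hx _ e
  by_cases h3 : x • x • p = p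
  · have h4 : ∀ i : ℕ, x ^ (2 * i) • p = p := by
      intro i
      induction i with
      | zero => simp
      | succ i ih => rw [mul_add, pow_add, mul_smul, mul_one, pow_two, mul_smul, h3, ih]
    refine h1 ?_
    have h5 : x ^ (2 * (m + 1)) = x := by
      rw [show 2 * (m + 1) = orderOf x + 1 by omega, pow_succ, pow_orderOf_eq_one, one_mul]
    have := h4 (m + 1)
    rwa [h5] at this
  · refine hy (S.three y p (x • p) (x • x • p) h1.symm h2.symm (Ne.symm h3) hp ?_ ?_)
    · simpa using hstab 1
    · simpa [pow_two, mul_smul] using hstab 2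

/-- An involution inverting a fixed-point-free element inverts its centraliser. -/
theorem inverts_centralizer {x u : G} (hx : ∀ p : Ω, x • p ≠ p) (hu : orderOf u = 2)
    (hux : u * x * u = x⁻¹) {y : G} (hy : y * x = x * y) : u * y * u = y⁻¹ := by
  classical
  have huu : u * u = 1 := by rw [← pow_two, ← hu, pow_orderOf_eq_one]
  set C := univ.filter fun y : G => y * x = x * y with hC
  have hmem : ∀ z ∈ C, z⁻¹ * (u * z * u) ∈ C := by
    intro z hz
    simp only [hC, mem_filter, mem_univ, true_and] at hz ⊢
    have h1 : (u * z * u) * x⁻¹ = x⁻¹ * (u * z * u) := by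
      rw [← hux]
      calc u * z * u * (u * x * u) = u * (z * (u * u) * x) * u := by group
        _ = u * (z * x) * u := by rw [huu, mul_one]
        _ = u * (x * z) * u := by rw [hz]
        _ = u * (x * (u * u) * z) * u := by rw [huu, mul_one]
        _ = u * x * u * (u * z * u) := by group
    have h2 : Commute (u * z * u) x := Commute.inv_right_iff.1 h1
    exact ((show Commute z x from hz).inv_left.mul_left h2).eq
  have hinj : Set.InjOn (fun z => z⁻¹ * (u * z * u)) (C : Set G) := by
    intro z hz w hw e
    simp only [hC, coe_filter, mem_univ, true_and, Set.mem_setOf_eq] at hz hw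
    simp only at e
    have h1 : (w * z⁻¹) * u = u * (w * z⁻¹) := by
      calc (w * z⁻¹) * u = w * (z⁻¹ * (u * z * u)) * (u * z * u)⁻¹ * u := by group
        _ = (u * w * u) * (u⁻¹ * z⁻¹ * u⁻¹) * u := by rw [e]; group
        _ = _ := by rw [S.inv_inv hu, mul_assoc (u * w * u), mul_assoc (u * z⁻¹), huu, mul_one]
                    rw [mul_assoc (u * w) u, ← mul_assoc u u, huu, one_mul, mul_assoc]
    by_contra hne
    obtain ⟨c, hc⟩ := Finset.card_eq_one.1 (S.one_fix u hu)
    have hcc : u • c = c := by
      have := congrArg (fun s : Finset Ω => c ∈ s) hc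
      simpa using this
    refine S.semiregular hx ((show Commute w x from hw).mul_left (show Commute z x from hz).inv_left).eq
      (fun h => hne (mul_inv_eq_one.1 h).symm) c ?_
    have hfix : u • (w * z⁻¹) • c = (w * z⁻¹) • c := by rw [← mul_smul, ← h1, mul_smul, hcc]
    have := congrArg (fun s : Finset Ω => (w * z⁻¹) • c ∈ s) hc
    simp only [mem_filter, mem_univ, true_and, mem_singleton] at this
    exact this.mp hfix
  obtain ⟨z, hz, hzy⟩ := surj_on_of_inj_on_of_card_le (fun z _ => z⁻¹ * (u * z * u)) hmem
    (fun z w hz hw e => hinj hz hw e) le_rfl y (by simp [hC, hy])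
  rw [hzy]
  calc u * (z⁻¹ * (u * z * u)) * u = u * z⁻¹ * u * z * (u * u) := by group
    _ = u⁻¹ * z⁻¹ * u⁻¹ * z := by rw [huu, mul_one, S.inv_inv hu]
    _ = (z⁻¹ * (u * z * u))⁻¹ := by group

/-- The pairs with fixed-point-free product, counted through the product. -/
theorem sum_inverting :
    2 * ∑ x ∈ univ.filter (fun g : G => ∀ p : Ω, g • p ≠ p),
      (univ.filter fun v : G => orderOf v = 2 ∧ v * x * v = x⁻¹).card = (n + 1) * h * (n * (h + 1)) := by
  classical
  rw [show (∑ x ∈ univ.filter (fun g : G => ∀ p : Ω, g • p ≠ p),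
      (univ.filter fun v : G => orderOf v = 2 ∧ v * x * v = x⁻¹).card) =
    ∑ x ∈ univ.filter (fun g : G => ∀ p : Ω, g • p ≠ p),
      ((univ.filter fun v : G => orderOf v = 2).bipartiteAbove (fun x v => v * x * v = x⁻¹) x).card from
    sum_congr rfl fun x _ => by rw [bipartiteAbove, filter_filter],
    sum_card_bipartiteAbove_eq_sum_card_bipartiteBelow, Finset.mul_sum, ← S.card_involutions]
  refine sum_const_nat fun u hu => ?_
  have hu2 := (mem_filter.1 hu).2
  have huu : u * u = 1 := by rw [← pow_two, ← hu2, pow_orderOf_eq_one]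
  rw [← S.two_mul_good hu2]
  congr 1
  refine card_bij (fun x _ => u * x) ?_ (fun x _ y _ e => mul_left_cancel e) ?_
  · intro x hx
    simp only [bipartiteBelow, mem_filter, mem_univ, true_and] at hx ⊢
    refine ⟨orderOf_eq_prime ?_ ?_, fun p => ?_⟩
    · rw [pow_two, show u * x * (u * x) = (u * x * u) * x by group, hx.2, inv_mul_cancel]
    · intro e
      obtain ⟨c, hc⟩ := Finset.card_eq_one.1 (S.one_fix u hu2)
      refine hx.1 c ?_
      have := congrArg (fun s : Finset Ω => c ∈ s) hc
      rw [show x = u by rw [← inv_eq_of_mul_eq_one_right e, S.inv_inv hu2]]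
      simpa using this
    · rw [← mul_assoc, huu, one_mul]
      exact hx.1 p
  · intro v hv
    simp only [bipartiteBelow, mem_filter, mem_univ, true_and] at hv ⊢
    refine ⟨u * v, ⟨hv.2, ?_⟩, by rw [← mul_assoc, huu, one_mul]⟩
    rw [← mul_assoc, huu, one_mul, mul_inv_rev, S.inv_inv hv.1, S.inv_inv hu2]

end SwapData

end CfsgLib.Zassenhaus
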