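import Cfsg.Agent.Zassenhaus.Triangle
import Cfsg.Agent.Zassenhaus.SwapCount

/-!
The line subgroup of order `q (q² − 1)` spanned by a triangle, and its cyclic-like torus of order `q + 1`.
-/

set_option autoImplicit false
set_option linter.unusedSectionVars false

namespace CfsgLib.Zassenhaus

open MulAction Finset

variable {G Ω : Type*} [Group G] [MulAction G Ω] {a : Ω} {t : G} {Q : Subgroup G} {n q : ℕ}

namespace KernelData

variable (K : KernelData G Ω a t Q n q)

include K

theorem card_eq_of_involution {v : G} (hv : orderOf v = 2) : v ≠ 1 ∧ v * v = 1 :=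
  ⟨fun e => by rw [e, orderOf_one] at hv; omega, by rw [← pow_two, ← hv, pow_orderOf_eq_one]⟩

/-- Changing the involution of the set-up. -/
theorem reroot [Finite G] {u : G} (hu2 : u * u = 1) (hua : u • a ≠ a) : KernelData G Ω a u Q n q := by
  obtain ⟨⟨x, hx⟩, hxb, -⟩ := RankOne.regular_Q K.setup (RankOne.ta_ne K.setup) hua
  have hxa : x • a = a := K.setup.le hx
  have hmap : stabilizer G a ⊓ stabilizer G (u • a) =
      (stabilizer G a ⊓ stabilizer G (t • a)).map (MulAut.conj x).toMonoidHom := by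
    ext d
    simp only [Subgroup.mem_inf, mem_stabilizer_iff, Subgroup.mem_map, MulEquiv.coe_toMonoidHom,
      MulAut.conj_apply]
    constructor
    · rintro ⟨h1, h2⟩
      refine ⟨x⁻¹ * d * x, ⟨?_, ?_⟩, by group⟩
      · rw [mul_smul, mul_smul, hxa, h1, inv_smul_eq_iff, hxa]
      · rw [mul_smul, mul_smul, inv_smul_eq_iff, show x • t • a = u • a from hxb, h2]
    · rintro ⟨e, ⟨h1, h2⟩, rfl⟩
      have hxa' : x⁻¹ • a = a := by rw [inv_smul_eq_iff, hxa]
      refine ⟨by rw [mul_smul, mul_smul, hxa', h1, hxa], ?_⟩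
      rw [← show x • t • a = u • a from hxb, mul_smul, mul_smul, inv_smul_smul, h2]
  have hcard : Nat.card ↥(stabilizer G a ⊓ stabilizer G (u • a)) =
      Nat.card ↥(stabilizer G a ⊓ stabilizer G (t • a)) := by
    rw [hmap, Subgroup.card_map_of_injective (MulAut.conj x).injective]
  have := RankOne.finite_points K.setup
  have hS : Cfsg.IsRankOneSetup G Ω a u Q :=
    { two_transitive := K.setup.two_transitive
      mul_self := hu2
      ne_one := fun e => hua (by rw [e, one_smul])
      not_mem := hua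
      le := K.setup.le
      conj_mem := K.setup.conj_mem
      inf_eq_bot := by
        rw [Subgroup.eq_bot_iff_forall]
        intro y hy
        obtain ⟨hyQ, hyb⟩ := Subgroup.mem_inf.1 hy
        by_contra hy1
        exact hua (K.fix y hyQ hy1 _ hyb)
      sup_eq := by
        refine le_antisymm (sup_le K.setup.le inf_le_left) fun g hg => ?_
        have hgb : g • u • a ≠ a := fun e => hua ((smul_left_cancel_iff g).1 (e.trans (mem_stabilizer_iff.1 hg).symm))
        obtain ⟨⟨y, hy⟩, hyb, -⟩ := RankOne.regular_Q K.setup hua hgb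
        have hd : y⁻¹ * g ∈ stabilizer G a ⊓ stabilizer G (u • a) := by
          refine Subgroup.mem_inf.2 ⟨mul_mem (inv_mem (K.setup.le hy)) hg, ?_⟩
          rw [mem_stabilizer_iff, mul_smul, inv_smul_eq_iff]
          exact hyb.symm
        rw [show g = y * (y⁻¹ * g) by group]
        exact Subgroup.mul_mem_sup hy hd
      even_card := K.setup.even_card
      odd_card := hcard ▸ K.setup.odd_card }
  exact
    { zass := K.zass
      setup := hS
      fix := K.fix
      inverts := fun d hd => inverts_of_odd K.zass hS K.fix hd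
      central := K.central
      two_group := K.two_group
      exp_four := K.exp_four
      card_pair := by rw [hcard, K.card_pair]
      card_Q := K.card_Q
      two_pow := K.two_pow
      degree := K.degree }

/-- The action on `Ω` satisfies the counting hypotheses. -/
theorem swapData [Fintype G] [DecidableEq G] [Fintype Ω] [DecidableEq Ω] :
    SwapData G Ω n (q - 1) := by
  classical
  haveI := RankOne.pretransitive K.setup
  have hD : Nat.card ↥(stabilizer G a ⊓ stabilizer G (t • a)) = q - 1 := by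
    have := K.card_pair; omega
  have h2t := K.setup.two_transitive
  have hpair : ∀ c d : Ω, c ≠ d →
      (univ.filter fun g : G => g • c = c ∧ g • d = d).card = q - 1 := by
    intro c d hcd
    obtain ⟨k, hkc, hkd⟩ := is_two_pretransitive_iff.1 h2t (RankOne.ta_ne K.setup).symm hcd
    rw [← hD, Nat.card_eq_fintype_card, ← Finset.card_univ]
    symm
    refine card_bij (fun x _ => k * (x : G) * k⁻¹) ?_ ?_ ?_
    · rintro ⟨x, hx⟩ -
      obtain ⟨h1, h2⟩ := Subgroup.mem_inf.1 hx
      simp [mul_smul, ← hkc, ← hkd, mem_stabilizer_iff.1 h1, mem_stabilizer_iff.1 h2]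
    · intro x _ y _ e
      exact Subtype.ext (mul_left_cancel (mul_right_cancel e))
    · intro g hg
      simp only [mem_filter, mem_univ, true_and] at hg
      refine ⟨⟨k⁻¹ * g * k, Subgroup.mem_inf.2 ⟨?_, ?_⟩⟩, Finset.mem_univ _, by group⟩
      · rw [mem_stabilizer_iff, mul_smul, mul_smul, hkc, hg.1, ← hkc, inv_smul_smul]
      · rw [mem_stabilizer_iff, mul_smul, mul_smul, hkd, hg.2, ← hkd, inv_smul_smul]
  refine
    { card_points := by rw [← Nat.card_eq_fintype_card, K.card_points]
      pretransitive := inferInstance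
      card_group := by rw [← Nat.card_eq_fintype_card, K.card_group]
      card_pair := hpair
      three := fun g x y z h1 h2 h3 hx hy hz => eq_one K.zass h1 h2 h3 hx hy hz
      one_fix := fun v hv => ?_
      swaps := fun p p' => ?_ }
  · obtain ⟨hv1, hv2⟩ := K.card_eq_of_involution hv
    obtain ⟨c, hc, huniq⟩ := RankOne.existsUnique_fixed K.setup hv1 hv2
    refine card_eq_one.2 ⟨c, eq_singleton_iff_unique_mem.2 ⟨by simpa using hc, fun x hx => huniq x ?_⟩⟩
    simpa using hx
  · have hK : Cfsg.invertedBy (stabilizer G a ⊓ stabilizer G (t • a) : Subgroup G) t =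
        ((stabilizer G a ⊓ stabilizer G (t • a) : Subgroup G) : Set G) := by
      ext x
      rw [RankOne.mem_inverted_iff K.setup]
      exact ⟨fun h => h.1, fun h => ⟨h, K.inverts x h⟩⟩
    have hiff : ∀ v : G, orderOf v = 2 ↔ (v ≠ 1 ∧ v * v = 1) := fun v =>
      ⟨fun h => K.card_eq_of_involution h, fun h => orderOf_eq_prime (by rw [pow_two, h.2]) h.1⟩
    rw [← hD]
    have key : ∀ k : G, ∀ x y : Ω, (univ.filter fun v : G => orderOf v = 2 ∧ v • x = y).card =
        (univ.filter fun v : G => orderOf v = 2 ∧ v • k • x = k • y).card := by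
      intro k x y
      refine card_equiv (MulAut.conj k).toEquiv fun v => ?_
      simp only [mem_filter, mem_univ, true_and, MulEquiv.toEquiv_eq_coe, EquivLike.coe_coe,
        MulAut.conj_apply, mul_smul, inv_smul_smul]
      rw [show orderOf (k * v * k⁻¹) = orderOf v from (MulAut.conj k).orderOf_eq v,
        smul_left_cancel_iff]
    by_cases hp : p = p'
    · subst hp
      obtain ⟨k, hk⟩ := exists_smul_eq G a p
      rw [← hk, ← key k a a]
      have h1 := RankOne.card_inverted K.setup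
      rw [hK] at h1
      rw [show Nat.card ↥(stabilizer G a ⊓ stabilizer G (t • a)) =
        Nat.card ((stabilizer G a ⊓ stabilizer G (t • a) : Subgroup G) : Set G) from rfl, h1,
        Nat.card_coe_set_eq, Set.ncard_eq_toFinset_card']
      congr 1
      ext v
      rw [Set.mem_toFinset]
      simp [Cfsg.involutionsIn, hiff, mem_stabilizer_iff]
      tauto
    · obtain ⟨k, hkc, hkd⟩ := is_two_pretransitive_iff.1 h2t (RankOne.ta_ne K.setup).symm hp
      rw [← hkc, ← hkd, ← key k a (t • a), Nat.card_eq_fintype_card, ← Finset.card_univ]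
      symm
      refine card_bij (fun x _ => t * (x : G)) ?_ ?_ ?_
      · intro x _
        have hx : (x : G) ∈ Cfsg.invertedBy (stabilizer G a ⊓ stabilizer G (t • a) : Subgroup G) t := by
          rw [hK]; exact x.2
        obtain ⟨h1, h2, h3⟩ := (RankOne.swap_iff K.setup).2 ⟨(x : G), hx, rfl⟩
        simp only [mem_filter, mem_univ, true_and, hiff]
        exact ⟨⟨h1, h2⟩, h3⟩
      · intro x _ y _ e
        exact Subtype.ext (mul_left_cancel e)
      · intro v hv
        simp only [mem_filter, mem_univ, true_and, hiff] at hv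
        obtain ⟨x, hx, rfl⟩ := (RankOne.swap_iff K.setup).1 ⟨hv.1.1, hv.1.2, hv.2⟩
        rw [hK] at hx
        exact ⟨⟨x, hx⟩, Finset.mem_univ _, rfl⟩

theorem left_mul_lineCarrier [Finite G] {s : G} (hs : s ∈ stabilizer G a) (hs1 : s ≠ 1) (hs2 : s * s = 1)
    (hbraid : t * s * t = s * t * s) {x g : G}
    (hx : x ∈ K.center₀ ∨ x ∈ stabilizer G a ⊓ stabilizer G (t • a) ∨ x = t)
    (hg : g ∈ lineCarrier K) : x * g ∈ lineCarrier K := by
  have ht := K.setup.mul_self
  have hDa : ∀ d ∈ stabilizer G a ⊓ stabilizer G (t • a), d ∈ stabilizer G a :=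
    fun d hd => (Subgroup.mem_inf.1 hd).1
  have htd : ∀ d ∈ stabilizer G a ⊓ stabilizer G (t • a), t * d = d⁻¹ * t := fun d hd => by
    rw [← K.inverts d hd, mul_assoc (t * d), ht, mul_one]
  rcases hg with ⟨z, hz, d, hd, rfl⟩ | ⟨z, hz, d, hd, w, hw, rfl⟩
  · rcases hx with hx | hx | rfl
    · exact Or.inl ⟨x * z, mul_mem hx hz, d, hd, by rw [mul_assoc]⟩
    · exact Or.inl ⟨x * z * x⁻¹, K.conj_center₀ (hDa x hx) hz, x * d, mul_mem hx hd, by group⟩
    · refine Or.inr ⟨1, one_mem _, d⁻¹, inv_mem hd, d⁻¹ * z * d, ?_, ?_⟩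
      · have := K.conj_center₀ (inv_mem (hDa d hd)) hz
        rwa [inv_inv] at this
      · rw [one_mul, ← htd d hd]
        group
  · rcases hx with hx | hx | rfl
    · exact Or.inr ⟨x * z, mul_mem hx hz, d, hd, w, hw, by group⟩
    · exact Or.inr ⟨x * z * x⁻¹, K.conj_center₀ (hDa x hx) hz, x * d, mul_mem hx hd, w, hw, by group⟩
    · by_cases hz1 : z = 1
      · subst hz1
        refine Or.inl ⟨d⁻¹ * w * d, ?_, d⁻¹, inv_mem hd, ?_⟩
        · have := K.conj_center₀ (inv_mem (hDa d hd)) hw
          rwa [inv_inv] at this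
        · rw [one_mul, show d⁻¹ * w * d * d⁻¹ = d⁻¹ * w by group, ← mul_assoc, ← mul_assoc, htd d hd,
            mul_assoc d⁻¹ x x, ht, mul_one]
      · obtain ⟨z₁, hz₁, d₁, hd₁, e⟩ := tzt_mem K hs hs1 hs2 hbraid hz hz1
        refine Or.inr ⟨z₁, hz₁, d₁ * d, mul_mem hd₁ hd, d * z₁ * d⁻¹ * w,
          mul_mem (K.conj_center₀ (hDa d hd) hz₁) hw, ?_⟩
        have htdi : x * d⁻¹ = d * x := by rw [htd _ (inv_mem hd), inv_inv]
        calc x * (z * d * x * w) = (x * z * x) * (x * d * x) * w := by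
              rw [show x * z * x * (x * d * x) * w = x * z * (x * x) * d * x * w by group, ht, mul_one]
              group
          _ = z₁ * d₁ * x * z₁ * d⁻¹ * w := by rw [e, K.inverts d hd]
          _ = z₁ * d₁ * (x * d⁻¹) * (d * z₁ * d⁻¹) * w := by group
          _ = _ := by rw [htdi]; group

/-- The line subgroup. -/
theorem exists_line [Finite G] {s : G} (hs : s ∈ stabilizer G a) (hs1 : s ≠ 1) (hs2 : s * s = 1)
    (hbraid : t * s * t = s * t * s) :
    ∃ L : Subgroup G, (L : Set G) = lineCarrier K := by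
  set S : Set G := {x | x ∈ K.center₀ ∨ x ∈ stabilizer G a ⊓ stabilizer G (t • a) ∨ x = t} with hSdef
  refine ⟨Subgroup.closure S, Set.Subset.antisymm (fun g hg => ?_) ?_⟩
  · induction hg using Subgroup.closure_induction_left with
    | one => exact Or.inl ⟨1, one_mem _, 1, one_mem _, (mul_one _).symm⟩
    | mul_left x hx y _ ih => exact K.left_mul_lineCarrier hs hs1 hs2 hbraid hx ih
    | inv_mul_cancel x hx y _ ih =>
      refine K.left_mul_lineCarrier hs hs1 hs2 hbraid ?_ ih
      rcases hx with hx | hx | rfl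
      · exact Or.inl (inv_mem hx)
      · exact Or.inr (Or.inl (inv_mem hx))
      · exact Or.inr (Or.inr K.t_inv)
  · have hz : ∀ z ∈ K.center₀, z ∈ Subgroup.closure S := fun z h => Subgroup.subset_closure (Or.inl h)
    have hd : ∀ d ∈ stabilizer G a ⊓ stabilizer G (t • a), d ∈ Subgroup.closure S := fun d h =>
      Subgroup.subset_closure (Or.inr (Or.inl h))
    have ht : t ∈ Subgroup.closure S := Subgroup.subset_closure (Or.inr (Or.inr rfl))
    rintro g (⟨z, hz', d, hd', rfl⟩ | ⟨z, hz', d, hd', w, hw', rfl⟩)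
    · exact mul_mem (hz z hz') (hd d hd')
    · exact mul_mem (mul_mem (mul_mem (hz z hz') (hd d hd')) ht) (hz w hw')

theorem card_line [Finite G] {L : Subgroup G} (hL : (L : Set G) = lineCarrier K) :
    Nat.card L = q * (q - 1) * (q + 1) := by
  classical
  set D := stabilizer G a ⊓ stabilizer G (t • a) with hD
  let f : (K.center₀ × D) ⊕ (K.center₀ × D × K.center₀) → L := fun p => match p with
    | Sum.inl (z, d) => ⟨z * d, by rw [← SetLike.mem_coe, hL]; exact Or.inl ⟨_, z.2, _, d.2, rfl⟩⟩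
    | Sum.inr (z, d, w) => ⟨z * d * t * w,
        by rw [← SetLike.mem_coe, hL]; exact Or.inr ⟨_, z.2, _, d.2, _, w.2, rfl⟩⟩
  have hcross : ∀ (z d z' d' w' : G), z ∈ K.center₀ → d ∈ D → z' ∈ K.center₀ → d' ∈ D → w' ∈ K.center₀ →
      z * d ≠ z' * d' * t * w' := by
    intro z d z' d' w' hz hd hz' hd' hw' e
    refine K.setup.not_mem ?_
    have : t = d'⁻¹ * z'⁻¹ * (z * d) * w'⁻¹ := by rw [e]; group
    rw [this]
    exact mul_mem (mul_mem (mul_mem (inv_mem (Subgroup.mem_inf.1 hd').1) (inv_mem hz'.1))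
      (mul_mem hz.1 (Subgroup.mem_inf.1 hd).1)) (inv_mem hw'.1)
  have hf : Function.Bijective f := by
    refine ⟨?_, ?_⟩
    · rintro (⟨z, d⟩ | ⟨z, d, w⟩) (⟨z', d'⟩ | ⟨z', d', w'⟩) e
      · have e' : (z : G) * d = z' * d' := congrArg Subtype.val e
        obtain ⟨h1, h2⟩ := RankOne.mul_unique K.setup (K.center₀_le z.2) d.2 (K.center₀_le z'.2) d'.2 e'
        rw [Subtype.ext h1, Subtype.ext h2]
      · exact absurd (congrArg Subtype.val e) (hcross _ _ _ _ _ z.2 d.2 z'.2 d'.2 w'.2)
      · exact absurd (congrArg Subtype.val e).symm (hcross _ _ _ _ _ z'.2 d'.2 z.2 d.2 w.2)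
      · have e' : (z : G) * d * t * w = z' * d' * t * w' := congrArg Subtype.val e
        obtain ⟨h1, h2, h3⟩ := RankOne.gh_unique K.setup (K.center₀_le z.2) d.2 (K.center₀_le w.2)
          (K.center₀_le z'.2) d'.2 (K.center₀_le w'.2) e'
        rw [Subtype.ext h1, Subtype.ext h2, Subtype.ext h3]
    · rintro ⟨g, hg⟩
      rw [← SetLike.mem_coe, hL] at hg
      rcases hg with ⟨z, hz, d, hd, rfl⟩ | ⟨z, hz, d, hd, w, hw, rfl⟩
      · exact ⟨Sum.inl (⟨z, hz⟩, ⟨d, hd⟩), rfl⟩
      · exact ⟨Sum.inr (⟨z, hz⟩, ⟨d, hd⟩, ⟨w, hw⟩), rfl⟩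
  rw [← Nat.card_eq_of_bijective f hf, Nat.card_sum, Nat.card_prod, Nat.card_prod, Nat.card_prod,
    K.card_center₀, show Nat.card D = q - 1 by rw [hD, ← K.card_pair, Nat.add_sub_cancel]]
  ring

theorem orbit_line [Finite G] {L : Subgroup G} (hL : (L : Set G) = lineCarrier K) (p : Ω) :
    p ∈ orbit L a ↔ p = a ∨ ∃ z ∈ K.center₀, p = z • t • a := by
  constructor
  · rintro ⟨⟨g, hg⟩, rfl⟩
    rw [← SetLike.mem_coe, hL] at hg
    rcases hg with ⟨z, hz, d, hd, rfl⟩ | ⟨z, hz, d, hd, w, hw, rfl⟩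
    · left
      show (z * d) • a = a
      exact mul_mem hz.1 (Subgroup.mem_inf.1 hd).1
    · right
      refine ⟨z, hz, ?_⟩
      show (z * d * t * w) • a = z • t • a
      rw [mul_smul, mem_stabilizer_iff.1 hw.1, mul_smul, mul_smul,
        mem_stabilizer_iff.1 (Subgroup.mem_inf.1 hd).2]
  · rintro (rfl | ⟨z, hz, rfl⟩)
    · exact mem_orbit_self _
    · refine ⟨⟨z * 1 * t * 1, ?_⟩, ?_⟩
      · rw [← SetLike.mem_coe, hL]
        exact Or.inr ⟨z, hz, 1, one_mem _, 1, one_mem _, rfl⟩
      · show (z * 1 * t * 1) • a = z • t • a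
        rw [mul_one, mul_one, mul_smul]

theorem card_orbit_line [Finite G] {L : Subgroup G} (hL : (L : Set G) = lineCarrier K) :
    Nat.card (orbit L a) = q + 1 := by
  classical
  let f : Option K.center₀ → orbit L a := fun o =>
    o.elim ⟨a, mem_orbit_self _⟩ fun z => ⟨(z : G) • t • a, (K.orbit_line hL _).2 (Or.inr ⟨z, z.2, rfl⟩)⟩
  have hne : ∀ z : K.center₀, (z : G) • t • a ≠ a := fun z e =>
    RankOne.ta_ne K.setup ((smul_left_cancel_iff (z : G)).1 (e.trans (mem_stabilizer_iff.1 z.2.1).symm))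
  have hf : Function.Bijective f := by
    refine ⟨?_, ?_⟩
    · rintro (_ | z) (_ | w) e
      · rfl
      · exact absurd (congrArg Subtype.val e).symm (hne w)
      · exact absurd (congrArg Subtype.val e) (hne z)
      · exact congrArg some (Subtype.ext (RankOne.Q_smul_inj K.setup (K.center₀_le z.2)
          (K.center₀_le w.2) (congrArg Subtype.val e)))
    · rintro ⟨p, hp⟩
      rcases (K.orbit_line hL p).1 hp with rfl | ⟨z, hz, rfl⟩
      · exact ⟨none, rfl⟩
      · exact ⟨some ⟨z, hz⟩, rfl⟩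
  rw [← Nat.card_eq_of_bijective f hf, Finite.card_option, K.card_center₀]

theorem line_two_transitive [Finite G] {L : Subgroup G} (hL : (L : Set G) = lineCarrier K) {c d : Ω}
    (hc : c ∈ orbit L a) (hd : d ∈ orbit L a) (hcd : c ≠ d) :
    ∃ l ∈ L, l • a = c ∧ l • t • a = d := by
  obtain ⟨⟨l₁, hl₁⟩, h1⟩ := hc
  have h1' : l₁ • a = c := h1
  have hd' : l₁⁻¹ • d ∈ orbit L a := by
    obtain ⟨⟨l₂, hl₂⟩, h2⟩ := hd
    refine ⟨⟨l₁⁻¹ * l₂, mul_mem (inv_mem hl₁) hl₂⟩, ?_⟩
    show (l₁⁻¹ * l₂) • a = _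
    rw [mul_smul]
    exact congrArg (l₁⁻¹ • ·) h2
  rcases (K.orbit_line hL _).1 hd' with e | ⟨z, hz, e⟩
  · exfalso
    rw [inv_smul_eq_iff, h1'] at e
    exact hcd e.symm
  · refine ⟨l₁ * z, mul_mem hl₁ ?_, ?_, ?_⟩
    · rw [← SetLike.mem_coe, hL]
      exact Or.inl ⟨z, hz, 1, one_mem _, (mul_one z).symm⟩
    · rw [mul_smul, mem_stabilizer_iff.1 hz.1, h1']
    · rw [mul_smul, ← e, smul_inv_smul]

/-- Involutions mapping a point of the line into the line lie in the line subgroup, and so do pair stabilisers. -/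
theorem mem_line [Finite G] {L : Subgroup G} (hL : (L : Set G) = lineCarrier K) {c d : Ω}
    (hc : c ∈ orbit L a) (hd : d ∈ orbit L a) :
    (∀ v : G, orderOf v = 2 → v • c = d → v ∈ L) ∧
      (c ≠ d → ∀ g : G, g • c = c → g • d = d → g ∈ L) := by
  have hback : ∀ l g : G, l ∈ L → l⁻¹ * g * l ∈ L → g ∈ L := by
    intro l g hl h
    rw [show g = l * (l⁻¹ * g * l) * l⁻¹ by group]
    exact mul_mem (mul_mem hl h) (inv_mem hl)
  constructor
  · intro v hv hvc
    obtain ⟨hv1, hv2⟩ := K.card_eq_of_involution hv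
    by_cases hcd : c = d
    · subst hcd
      obtain ⟨⟨l, hl⟩, hlc⟩ := hc
      have hlc' : l • a = c := hlc
      refine hback l v hl ?_
      rw [← SetLike.mem_coe, hL]
      refine Or.inl ⟨_, ⟨?_, ?_⟩, 1, one_mem _, (mul_one _).symm⟩
      · rw [mem_stabilizer_iff, mul_smul, mul_smul, hlc', hvc, ← hlc', inv_smul_smul]
      · rw [show l⁻¹ * v * l * (l⁻¹ * v * l) = l⁻¹ * (v * v) * l by group, hv2]
        group
    · obtain ⟨l, hl, hla, hlb⟩ := K.line_two_transitive hL hc hd hcd
      refine hback l v hl ?_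
      have h3 : (l⁻¹ * v * l) • a = t • a := by
        rw [mul_smul, mul_smul, hla, hvc, ← hlb, inv_smul_smul]
      obtain ⟨k, hk, e⟩ := (RankOne.swap_iff K.setup).1
        ⟨fun e => hv1 (by
          rw [show v = l * (l⁻¹ * v * l) * l⁻¹ by group, e]
          group), by rw [show l⁻¹ * v * l * (l⁻¹ * v * l) = l⁻¹ * (v * v) * l by group, hv2]; group, h3⟩
      have hkD := ((RankOne.mem_inverted_iff K.setup).1 hk).1
      rw [← SetLike.mem_coe, hL, e]
      refine Or.inr ⟨1, one_mem _, k⁻¹, inv_mem hkD, 1, one_mem _, ?_⟩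
      rw [one_mul, mul_one, ← K.inverts k hkD, mul_assoc (t * k), K.setup.mul_self, mul_one]
  · intro hcd g hgc hgd
    obtain ⟨l, hl, hla, hlb⟩ := K.line_two_transitive hL hc hd hcd
    refine hback l g hl ?_
    rw [← SetLike.mem_coe, hL]
    refine Or.inl ⟨1, one_mem _, l⁻¹ * g * l, Subgroup.mem_inf.2 ⟨?_, ?_⟩, (one_mul _).symm⟩
    · rw [mem_stabilizer_iff, mul_smul, mul_smul, hla, hgc, ← hla, inv_smul_smul]
    · rw [mem_stabilizer_iff, mul_smul, mul_smul, hlb, hgd, ← hlb, inv_smul_smul]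

theorem swapData_line [Fintype G] [DecidableEq G] [Fintype Ω] [DecidableEq Ω] {L : Subgroup G}
    (hL : (L : Set G) = lineCarrier K) [Fintype L] [Fintype (orbit L a)] :
    SwapData L (orbit L a) q (q - 1) := by
  have S := K.swapData
  have hodd : Fintype.card (orbit L a) % 2 = 1 := by
    rw [← Nat.card_eq_fintype_card, K.card_orbit_line hL]
    obtain ⟨k, hk, rfl⟩ := K.two_pow
    obtain ⟨j, rfl⟩ := Nat.exists_eq_add_of_le hk
    rw [pow_add]
    omega
  have hne : ∀ x y : orbit L a, x ≠ y → (x : Ω) ≠ y := fun x y h e => h (Subtype.ext e)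
  refine
    { card_points := by rw [← Nat.card_eq_fintype_card, K.card_orbit_line hL]
      pretransitive := inferInstance
      card_group := by rw [← Nat.card_eq_fintype_card, K.card_line hL]
      card_pair := fun c d hcd => ?_
      three := fun g x y z h1 h2 h3 hx hy hz => Subtype.ext (S.three (g : G) x y z (hne _ _ h1)
        (hne _ _ h2) (hne _ _ h3) (congrArg Subtype.val hx) (congrArg Subtype.val hy)
        (congrArg Subtype.val hz))
      one_fix := fun v hv => ?_
      swaps := fun p p' => ?_ }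
  · refine Eq.trans ?_ (S.card_pair (c : Ω) (d : Ω) (hne _ _ hcd))
    refine card_bij (fun g _ => (g : G)) ?_ (fun x _ y _ e => Subtype.ext e) ?_
    · intro g hg
      simp only [mem_filter, mem_univ, true_and] at hg ⊢
      exact ⟨congrArg Subtype.val hg.1, congrArg Subtype.val hg.2⟩
    · intro g hg
      simp only [mem_filter, mem_univ, true_and] at hg ⊢
      exact ⟨⟨g, (K.mem_line hL c.2 d.2).2 (hne _ _ hcd) g hg.1 hg.2⟩,
        ⟨Subtype.ext hg.1, Subtype.ext hg.2⟩, rfl⟩
  · have hvG : orderOf (v : G) = 2 := by rwa [Subgroup.orderOf_coe]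
    have h1 : nfix (Ω := orbit L a) v ≤ 1 := by
      rw [nfix, card_le_one]
      intro x hx y hy
      simp only [mem_filter, mem_univ, true_and] at hx hy
      obtain ⟨c, hc⟩ := Finset.card_eq_one.1 (S.one_fix _ hvG)
      have ex := congrArg (fun s : Finset Ω => (x : Ω) ∈ s) hc
      have ey := congrArg (fun s : Finset Ω => (y : Ω) ∈ s) hc
      simp only [mem_filter, mem_univ, true_and, mem_singleton] at ex ey
      exact Subtype.ext ((ex.mp (congrArg Subtype.val hx)).trans (ey.mp (congrArg Subtype.val hy)).symm)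
    have h2 := Perm.Zassenhaus.fixedBy_parity (G := L) (Ω := orbit L a) (s := v)
      (by rw [← pow_two, ← hv, pow_orderOf_eq_one])
    rw [hodd, Nat.card_coe_set_eq, Set.ncard_eq_toFinset_card'] at h2
    have h3 : (fixedBy (orbit L a) v).toFinset = univ.filter fun c => v • c = c := by
      ext c; simp [mem_fixedBy]
    rw [h3] at h2
    change nfix (Ω := orbit L a) v % 2 = 1 at h2
    omega
  · refine Eq.trans ?_ (S.swaps (p : Ω) (p' : Ω))
    refine card_bij (fun g _ => (g : G)) ?_ (fun x _ y _ e => Subtype.ext e) ?_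
    · intro g hg
      simp only [mem_filter, mem_univ, true_and] at hg ⊢
      exact ⟨by rw [Subgroup.orderOf_coe]; exact hg.1, congrArg Subtype.val hg.2⟩
    · intro g hg
      simp only [mem_filter, mem_univ, true_and] at hg ⊢
      exact ⟨⟨g, (K.mem_line hL p.2 p'.2).1 g hg.1 hg.2⟩,
        ⟨by rw [← Subgroup.orderOf_coe]; exact hg.1, Subtype.ext hg.2⟩, rfl⟩

end KernelData

end CfsgLib.Zassenhaus
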