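import Cfsg.Agent.Zassenhaus.Basic
import Cfsg.Agent.CharactersDeep.ZassenhausTransfer
import Cfsg.Agent.SuzukiTwoGroup.TypeA
import Cfsg.Agent.SuzukiTwoGroup.Order

/-!
Simple Zassenhaus groups whose point kernel is a non-abelian 2-group: the kernel is a Suzuki 2-group, the
two-point stabiliser is cyclic, inverted by the swaps, regular on the involutions of the kernel.
-/

set_option autoImplicit false
set_option linter.unusedSectionVars false
set_option linter.style.haveILetI false

namespace CfsgLib.Zassenhaus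

open MulAction

variable {G Ω : Type*} [Group G] [MulAction G Ω]

/-- The data of a rank-one set-up with central involutions and inverted pair stabiliser. -/
structure KernelData (G Ω : Type*) [Group G] [MulAction G Ω] (a : Ω) (t : G) (Q : Subgroup G)
    (n q : ℕ) : Prop where
  zass : Cfsg.IsZassenhausGroup G Ω
  setup : Cfsg.IsRankOneSetup G Ω a t Q
  fix : ∀ x ∈ Q, x ≠ 1 → ∀ c : Ω, x • c = c → c = a
  inverts : ∀ d ∈ stabilizer G a ⊓ stabilizer G (t • a), t * d * t = d⁻¹
  central : ∀ s ∈ stabilizer G a, s ≠ 1 → s * s = 1 → s ∈ Q ∧ ∀ x ∈ Q, s * x = x * s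
  two_group : IsPGroup 2 Q
  exp_four : ∀ x ∈ Q, x ^ 4 = 1
  card_pair : Nat.card ↥(stabilizer G a ⊓ stabilizer G (t • a)) + 1 = q
  card_Q : Nat.card Q = n
  two_pow : ∃ k, 2 ≤ k ∧ q = 2 ^ k
  degree : n = q ^ 2 ∨ n = q ^ 3

theorem smul_of_commute {s x : G} {a : Ω} (hfix : ∀ c : Ω, s • c = c → c = a) (hs : s • a = a)
    (h : x * s = s * x) : x • a = a :=
  hfix _ (by rw [← mul_smul, ← h, mul_smul, hs])

/-- A kernel with the properties of the regular subgroup is that subgroup. -/
theorem kernel_unique [Finite G] [Finite Ω] {a : Ω} {U Q : Subgroup G} (hUle : U ≤ stabilizer G a)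
    (hreg : ∀ c d : Ω, c ≠ a → d ≠ a → ∃! u : U, (u : G) • c = d)
    (honly : ∀ g : G, g • a = a → (∀ c : Ω, g • c = c → c = a) → g ∈ Q)
    (hcard : Nat.card Q + 1 = Nat.card Ω) {b : Ω} (hb : b ≠ a) : Q = U := by
  classical
  haveI := Fintype.ofFinite Ω
  have hle : U ≤ Q := fun x hx => by
    by_cases hx1 : x = 1
    · rw [hx1]; exact one_mem _
    refine honly x (hUle hx) fun c hc => ?_
    by_contra hca
    obtain ⟨u, -, huniq⟩ := hreg c c hca hca
    have h1 := huniq ⟨x, hx⟩ hc
    have h2 := huniq 1 (one_smul G c)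
    exact hx1 (congrArg Subtype.val (h1.trans h2.symm))
  let f : U → {c : Ω // c ≠ a} := fun u => ⟨(u : G) • b, fun h =>
    hb ((smul_left_cancel_iff (u : G)).1 (h.trans (hUle u.2).symm))⟩
  have hf : Function.Bijective f := by
    refine ⟨fun x y e => ?_, fun c => ?_⟩
    · exact (hreg b ((y : G) • b) hb (f y).2).unique (congrArg Subtype.val e) rfl
    · obtain ⟨u, hu, -⟩ := hreg b c hb c.2
      exact ⟨u, Subtype.ext hu⟩
  refine (Subgroup.eq_of_le_of_card_ge hle ?_).symm
  rw [Nat.card_eq_of_bijective f hf, Nat.card_eq_fintype_card (α := {c : Ω // c ≠ a}),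
    Fintype.card_subtype_compl, Fintype.card_subtype_eq]
  rw [Nat.card_eq_fintype_card (α := Ω)] at hcard
  omega

/-- The centraliser of an involution of the kernel is the kernel. -/
theorem KernelData.mem_of_commute {a : Ω} {t : G} {Q : Subgroup G} {n q : ℕ}
    (K : KernelData G Ω a t Q n q) [Finite G] {s x : G} (hs : s ∈ stabilizer G a) (hs1 : s ≠ 1)
    (hs2 : s * s = 1) (h : x * s = s * x) : x ∈ Q := by
  obtain ⟨hsQ, hsc⟩ := K.central s hs hs1 hs2
  have hxa : x • a = a := smul_of_commute (K.fix s hsQ hs1) hs h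
  obtain ⟨y, hy, d, hd, rfl⟩ := RankOne.exists_mem_mul K.setup (mem_stabilizer_iff.2 hxa)
  have hds : d * s = s * d := by
    have h1 : y * (d * s) = y * (s * d) := by
      rw [← mul_assoc, h, ← mul_assoc, hsc y hy, mul_assoc]
    exact mul_left_cancel h1
  haveI := RankOne.finite_points K.setup
  rw [fpf_kernel K.zass (RankOne.ta_ne K.setup).symm hs (K.fix s hsQ hs1)
    (Subgroup.mem_inf.1 hd).1 (Subgroup.mem_inf.1 hd).2 hds, mul_one]
  exact hy

/-- Existence of the data, together with the type of the kernel. -/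
theorem exists_kernelData (hZ : Cfsg.IsZassenhausGroup G Ω) [IsSimpleGroup G] [Finite G] [Finite Ω]
    {a : Ω} {U : Subgroup G} (hUle : U ≤ stabilizer G a)
    (hreg : ∀ c d : Ω, c ≠ a → d ≠ a → ∃! u : U, (u : G) • c = d)
    (hU2 : IsPGroup 2 U) (hUna : ∃ u v : U, u * v ≠ v * u) :
    ∃ (t : G) (n q : ℕ), KernelData G Ω a t U n q ∧
      IsCyclic ↥(stabilizer G a ⊓ stabilizer G (t • a)) ∧ Nat.card Ω = n + 1 ∧
      Nat.card (Subgroup.center U) = q ∧ Cfsg.IsSuzukiTwoGroup U := by
  classical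
  haveI := hZ.1
  haveI : Fact (Nat.Prime 2) := ⟨Nat.prime_two⟩
  obtain ⟨b, hb⟩ := exists_ne hZ a
  obtain ⟨Q₀, -, -, -, -, -, hQcard, honly⟩ := exists_kernel hZ a
  have hQU : Q₀ = U := kernel_unique hUle hreg honly hQcard hb
  have hU1 : U ≠ ⊥ := by
    intro h
    obtain ⟨u, v, huv⟩ := hUna
    apply huv
    have : Subsingleton U := by rw [h]; infer_instance
    exact Subsingleton.elim _ _
  have hodd : Odd (Nat.card Ω) := by
    rw [← hQcard, hQU]
    exact Even.add_one (even_iff_two_dvd.2 (hU2.card_eq_or_dvd.resolve_left fun e =>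
      hU1 (Subgroup.eq_bot_of_card_eq _ e)))
  obtain ⟨t, Q, hS, hfix, h2⟩ := exists_setup hZ hodd a
  have hQ : Q = U := by
    have : Q ≤ Q₀ := fun x hx => by
      by_cases hx1 : x = 1
      · rw [hx1]; exact one_mem _
      · exact honly x (hS.le hx) (hfix x hx hx1)
    rw [← hQU]
    refine Subgroup.eq_of_le_of_card_ge this ?_
    have := RankOne.card_points hS
    omega
  subst hQ
  have hinv : ∀ d ∈ stabilizer G a ⊓ stabilizer G (t • a), t * d * t = d⁻¹ :=
    fun d hd => inverts_of_odd hZ hS hfix hd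
  have hcentral : ∀ s ∈ stabilizer G a, s ≠ 1 → s * s = 1 → s ∈ Q ∧ ∀ x ∈ Q, s * x = x * s :=
    fun s hs h1 h2' => RankOne.involution_central hS h2 ⟨hs, h1, h2'⟩
  have hK : Cfsg.invertedBy (stabilizer G a ⊓ stabilizer G (t • a) : Subgroup G) t =
      ((stabilizer G a ⊓ stabilizer G (t • a) : Subgroup G) : Set G) := by
    ext x
    rw [RankOne.mem_inverted_iff hS]
    exact ⟨fun h => h.1, fun h => ⟨h, hinv x h⟩⟩
  set D := stabilizer G a ⊓ stabilizer G (t • a) with hD
  haveI hDcyc : IsCyclic ↥D := by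
    have hcomm : ∀ x y : ↥D, x * y = y * x := fun x y => Subtype.ext
      (CharactersDeep.ZassenhausOdd.comm hZ (RankOne.ta_ne hS).symm hS.odd_card x.2 y.2)
    haveI := CharactersDeep.ZassenhausOdd.isZGroup_stE hZ (RankOne.ta_ne hS).symm hS.odd_card
    letI : CommGroup ↥D := { (inferInstance : Group ↥D) with mul_comm := hcomm }
    infer_instance
  -- the automorphism group induced by `D`
  let φ : ↥D →* MulAut Q :=
    { toFun := fun d =>
        { toFun := fun x => ⟨(d : G) * x * (d : G)⁻¹, RankOne.D_norm_Q hS d.2 x.2⟩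
          invFun := fun x => ⟨(d : G)⁻¹ * x * (d : G), by
            simpa using RankOne.D_norm_Q hS (inv_mem d.2) x.2⟩
          left_inv := fun x => Subtype.ext (by simp [mul_assoc])
          right_inv := fun x => Subtype.ext (by simp [mul_assoc])
          map_mul' := fun x y => Subtype.ext (by simp [mul_assoc]) }
      map_one' := by ext x; simp
      map_mul' := fun d e => by ext x; simp [mul_assoc] }
  have hsuz : Cfsg.IsSuzukiTwoGroup Q := by
    obtain ⟨x, y, hx, hy, hne⟩ := RankOne.exists_two_involutions hS h2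
    refine ⟨inferInstance, hU2, hUna, ⟨⟨x, (hcentral x hx.1 hx.2.1 hx.2.2).1⟩,
      ⟨y, (hcentral y hy.1 hy.2.1 hy.2.2).1⟩, fun e => hne (congrArg Subtype.val e),
      fun e => hx.2.1 (congrArg Subtype.val e), Subtype.ext hx.2.2,
      fun e => hy.2.1 (congrArg Subtype.val e), Subtype.ext hy.2.2⟩, φ.range, ?_, ?_⟩
    · exact isCyclic_of_surjective φ.rangeRestrict φ.rangeRestrict_surjective
    · intro u v hu1 hu2 hv1 hv2
      have hu : (u : G) ∈ Cfsg.involutionsIn (stabilizer G a : Set G) :=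
        ⟨hS.le u.2, fun e => hu1 (Subtype.ext e), congrArg Subtype.val hu2⟩
      have hv : (v : G) ∈ Cfsg.involutionsIn (stabilizer G a : Set G) :=
        ⟨hS.le v.2, fun e => hv1 (Subtype.ext e), congrArg Subtype.val hv2⟩
      obtain ⟨k, hk, e⟩ := RankOne.conj_inverted_surjective hS hu hv
      rw [hK] at hk
      refine ⟨⟨φ ⟨k⁻¹, inv_mem hk⟩, ⟨_, rfl⟩⟩, Subtype.ext ?_, ?_⟩
      · show k⁻¹ * (u : G) * k⁻¹⁻¹ = v
        rw [inv_inv]
        exact e
      · rintro ⟨_, d, rfl⟩ hd
        apply Subtype.ext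
        show φ d = φ ⟨k⁻¹, inv_mem hk⟩
        congr 1
        apply Subtype.ext
        have hd' : (d : G) * u * (d : G)⁻¹ = v := congrArg Subtype.val hd
        have hkd : (k * d) * (u : G) = u * (k * d) := by
          have : k * ((d : G) * u * (d : G)⁻¹) * k⁻¹ = u := by
            rw [hd', ← e]; group
          calc (k * d) * (u : G) = (k * ((d : G) * u * (d : G)⁻¹) * k⁻¹) * (k * d) := by group
            _ = _ := by rw [this]
        have h1 := fpf_kernel hZ (RankOne.ta_ne hS).symm hu.1 (hfix u u.2 hu.2.1)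
          (Subgroup.mem_inf.1 (mul_mem hk d.2)).1 (Subgroup.mem_inf.1 (mul_mem hk d.2)).2 hkd
        show (d : G) = k⁻¹
        exact eq_inv_of_mul_eq_one_right h1
  obtain ⟨K, hSet⟩ := SuzukiTwoGroup.exists_setting hsuz
  have hcz : Nat.card (Subgroup.center Q) = Nat.card ↥D + 1 := by
    have h1 : Nat.card (Cfsg.invertedBy D t) = Nat.card ↥D := by rw [hK]; rfl
    rw [← h1, RankOne.card_inverted hS]
    haveI := Fintype.ofFinite (Subgroup.center Q)
    let f : Cfsg.involutionsIn (stabilizer G a : Set G) → {z : Subgroup.center Q // z ≠ 1} := fun s =>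
      ⟨⟨⟨(s : G), (hcentral s s.2.1 s.2.2.1 s.2.2.2).1⟩, Subgroup.mem_center_iff.2 fun x =>
        Subtype.ext ((hcentral s s.2.1 s.2.2.1 s.2.2.2).2 x x.2).symm⟩,
        fun e => s.2.2.1 (congrArg (fun z : Subgroup.center Q => ((z : Q) : G)) e)⟩
    have hf : Function.Bijective f := by
      refine ⟨fun x y e => Subtype.ext (congrArg (fun z : {z : Subgroup.center Q // z ≠ 1} =>
        (((z : Subgroup.center Q) : Q) : G)) e), fun z => ?_⟩
      obtain ⟨⟨z, hz⟩, hz1⟩ := z
      refine ⟨⟨(z : G), hS.le z.2, fun e => hz1 (Subtype.ext (Subtype.ext e)),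
        congrArg Subtype.val (SuzukiTwoGroup.center_sq hsuz z hz)⟩, rfl⟩
    rw [Nat.card_eq_of_bijective f hf, Nat.card_eq_fintype_card, Nat.card_eq_fintype_card,
      Fintype.card_subtype_compl, Fintype.card_subtype_eq]
    have : 0 < Fintype.card (Subgroup.center Q) := Fintype.card_pos
    omega
  have hpow : ∃ k, 2 ≤ k ∧ Nat.card ↥D + 1 = 2 ^ k := by
    obtain ⟨k, hk⟩ := (hU2.to_subgroup (Subgroup.center Q)).exists_card_eq
    rw [hcz] at hk
    refine ⟨k, ?_, hk⟩
    obtain ⟨x, hx, hx1⟩ := RankOne.exists_inverted_ne_one hS h2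
    rw [← hD, hK] at hx
    by_contra hk2
    have hDle : Nat.card ↥D ≤ 1 := by
      have : 2 ^ k ≤ 2 ^ 1 := Nat.pow_le_pow_right (by omega) (by omega)
      omega
    haveI : Nontrivial ↥D := ⟨⟨x, hx⟩, 1, fun e => hx1 (congrArg Subtype.val e)⟩
    have := Finite.one_lt_card (α := ↥D)
    omega
  refine ⟨t, Nat.card Q, Nat.card ↥D + 1,
    { zass := hZ
      setup := hS
      fix := hfix
      inverts := hinv
      central := hcentral
      two_group := hU2
      exp_four := fun x hx => by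
        have h := Monoid.pow_exponent_eq_one (⟨x, hx⟩ : Q)
        rw [hSet.exponent_eq] at h
        exact congrArg Subtype.val h
      card_pair := rfl
      card_Q := rfl
      two_pow := hpow
      degree := by rw [← hcz]; exact hSet.card_eq }, hDcyc, RankOne.card_points hS, hcz, hsuz⟩

end CfsgLib.Zassenhaus
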