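import Cfsg.Agent.Zassenhaus.SuzukiKernel

/-!
Triangles in Zassenhaus groups with 2-group kernel: the structure equation gives a pair of involutions
`s ∈ G_a`, `t ∉ G_a` whose product has order 3 or 5; order 3 yields a subgroup of order `q (q² − 1)`.
-/

set_option autoImplicit false
set_option linter.unusedSectionVars false

namespace CfsgLib.Zassenhaus

open MulAction

variable {G Ω : Type*} [Group G] [Finite G] [MulAction G Ω] {a : Ω} {t : G} {Q : Subgroup G} {n q : ℕ}

namespace KernelData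

variable (K : KernelData G Ω a t Q n q)

include K

theorem t_inv : t⁻¹ = t := inv_eq_of_mul_eq_one_right K.setup.mul_self

theorem card_group : Nat.card G = n * (q - 1) * (n + 1) := by
  rw [RankOne.card_group K.setup, K.card_Q, ← K.card_pair, Nat.add_sub_cancel]

theorem card_points : Nat.card Ω = n + 1 := by rw [RankOne.card_points K.setup, K.card_Q]

/-- The product of the two involutions of the structure equation has order three or five. -/
theorem structure_order : ∃ s ∈ stabilizer G a, s ≠ 1 ∧ s * s = 1 ∧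
    ((t * s) ^ 3 = 1 ∨ orderOf (t * s) = 5) := by
  obtain ⟨s, r, ⟨hsA, hs1, hs2⟩, hr, e⟩ := RankOne.exists_structure K.setup
  refine ⟨s, hsA, hs1, hs2, ?_⟩
  obtain ⟨hsQ, hsc⟩ := K.central s hsA hs1 hs2
  set x := t * s with hxdef
  have hrs : r * s = s * r := (hsc r hr).symm
  -- `r` conjugates `x ^ 2` to `x`
  have hconj : r * x ^ 2 * r⁻¹ = x := by
    have e' : r * (t * s * t) * r⁻¹ = t := by rw [e]; group
    calc r * x ^ 2 * r⁻¹ = (r * (t * s * t) * r⁻¹) * (r * s * r⁻¹) := by rw [hxdef, pow_two]; group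
      _ = x := by rw [e', hrs, mul_inv_cancel_right, hxdef]
  have hpow : ∀ i : ℕ, r ^ i * x ^ (2 ^ i) * (r ^ i)⁻¹ = x := by
    intro i
    induction i with
    | zero => simp
    | succ i ih =>
      calc r ^ (i + 1) * x ^ 2 ^ (i + 1) * (r ^ (i + 1))⁻¹
          = r * (r ^ i * (x ^ 2 ^ i) ^ 2 * (r ^ i)⁻¹) * r⁻¹ := by
            rw [← pow_mul, ← pow_succ (2 : ℕ), pow_succ' r]; group
        _ = r * (r ^ i * x ^ 2 ^ i * (r ^ i)⁻¹) ^ 2 * r⁻¹ := by rw [← conj_pow]
        _ = x := by rw [ih, hconj]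
  have h15 : x ^ 15 = 1 := by
    have h := hpow 4
    rw [K.exp_four r hr, one_mul, inv_one, mul_one, show 2 ^ 4 = 15 + 1 by norm_num, pow_succ] at h
    exact mul_eq_right.1 h
  by_cases h5 : x ^ 5 = 1
  · refine Or.inr ?_
    haveI : Fact (Nat.Prime 5) := ⟨by norm_num⟩
    refine orderOf_eq_prime h5 fun h1 => K.setup.not_mem ?_
    have hts : t = s := by
      rw [← inv_eq_of_mul_eq_one_left (show t * s = 1 from h1), inv_eq_of_mul_eq_one_right hs2]
    show t ∈ stabilizer G a
    rw [hts]; exact hsA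
  refine Or.inl ?_
  by_cases hr2 : r * r = 1
  · have h := hpow 2
    rw [pow_two r, hr2, one_mul, inv_one, mul_one, show 2 ^ 2 = 3 + 1 by norm_num, pow_succ] at h
    exact mul_eq_right.1 h
  exfalso
  -- `r * r` is an involution of the kernel centralising `x ^ 5`
  set z := r * r with hz
  have hzz : z * z = 1 := by
    have h := K.exp_four r hr
    rw [show (4 : ℕ) = 2 + 2 from rfl, pow_add, pow_two] at h
    exact h
  have hzA : z ∈ stabilizer G a := K.setup.le (mul_mem hr hr)
  have hcy : z * x ^ 5 = x ^ 5 * z := by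
    have h := hpow 2
    rw [pow_two r, ← hz] at h
    have h' : z * (x ^ 5) ^ 4 * z⁻¹ = x ^ 5 := by
      rw [← pow_mul, mul_comm 5 4, pow_mul, ← conj_pow, show x ^ 4 = x ^ 2 ^ 2 by norm_num, h]
    have e4 : (x ^ 5) ^ 4 = x ^ 5 := by
      rw [← pow_mul, show 5 * 4 = 15 + 5 by norm_num, pow_add, h15, one_mul]
    rw [e4, mul_inv_eq_iff_eq_mul] at h'
    exact h'
  have hyQ := K.mem_of_commute hzA hr2 hzz hcy.symm
  haveI := RankOne.finite_points K.setup
  have hfix : x ^ 5 • x • a = x • a := by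
    rw [← mul_smul, ← pow_succ, pow_succ', mul_smul, K.setup.le hyQ]
  have hxa := K.fix _ hyQ h5 _ hfix
  refine K.setup.not_mem ?_
  show t • a = a
  rw [show t = x * s by rw [hxdef, mul_assoc, hs2, mul_one], mul_smul, hsA, hxa]

theorem odd_pair : Odd (Nat.card ↥(stabilizer G a ⊓ stabilizer G (t • a))) := K.setup.odd_card

/-- When three divides the order of the pair stabiliser there is a triangle. -/
theorem triangle_of_three_dvd (h3 : 3 ∣ Nat.card ↥(stabilizer G a ⊓ stabilizer G (t • a))) :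
    ∃ s u : G, s ∈ stabilizer G a ∧ s ≠ 1 ∧ s * s = 1 ∧ u * u = 1 ∧ u • a ≠ a ∧ u * s * u = s * u * s := by
  haveI : Fact (Nat.Prime 3) := ⟨Nat.prime_three⟩
  obtain ⟨⟨k, hk⟩, hord⟩ := exists_prime_orderOf_dvd_card' 3 h3
  rw [Subgroup.orderOf_mk] at hord
  have hk3 : k * k * k = 1 := by
    rw [← pow_two, ← pow_succ, show 2 + 1 = orderOf k by rw [hord], pow_orderOf_eq_one]
  have hk1 : k ≠ 1 := fun e => by rw [e, orderOf_one] at hord; omega
  have hkinv := K.inverts k hk
  have hw2 : (t * k) * (t * k) = 1 := by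
    rw [show t * k * (t * k) = (t * k * t) * k by group, hkinv, inv_mul_cancel]
  have hw1 : t * k ≠ 1 := fun e => K.setup.not_mem (by
    have : t = k⁻¹ := eq_inv_of_mul_eq_one_left e
    show t ∈ stabilizer G a
    rw [this]
    exact inv_mem (Subgroup.mem_inf.1 hk).1)
  have := RankOne.finite_points K.setup
  obtain ⟨c, hc, -⟩ := RankOne.existsUnique_fixed K.setup hw1 hw2
  have hwa : (t * k) • a = t • a := by rw [mul_smul, (Subgroup.mem_inf.1 hk).1]
  have hca : c ≠ a := fun e => RankOne.ta_ne K.setup (by rw [← hwa, ← e]; exact hc)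
  have hcta : c ≠ t • a := fun e => RankOne.ta_ne K.setup (by
    have h2 : (t * k) • t • a = a := by rw [← hwa, ← mul_smul, hw2, one_smul]
    rw [← e, show (t * k) • c = c from hc] at h2
    exact e ▸ h2)
  have htc : t • c ≠ c := fun e => hk1 (eq_one K.zass (RankOne.ta_ne K.setup).symm hcta.symm hca.symm
    (Subgroup.mem_inf.1 hk).1 (Subgroup.mem_inf.1 hk).2 (by
      have h1 : k • c = t • c := by
        calc k • c = t • (t * k) • c := by
              rw [← mul_smul, ← mul_assoc, K.setup.mul_self, one_mul]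
          _ = t • c := by rw [show (t * k) • c = c from hc]
      rw [h1, e]))
  obtain ⟨g, hg⟩ := (RankOne.pretransitive K.setup).exists_smul_eq c a
  refine ⟨g * (t * k) * g⁻¹, g * t * g⁻¹, ?_, ?_, ?_, ?_, ?_, ?_⟩
  · show (g * (t * k) * g⁻¹) • a = a
    rw [mul_smul, mul_smul, ← hg, inv_smul_smul, show (t * k) • c = c from hc]
  · intro e
    rw [mul_inv_eq_one, mul_eq_left] at e
    exact hw1 e
  · rw [show g * (t * k) * g⁻¹ * (g * (t * k) * g⁻¹) = g * ((t * k) * (t * k)) * g⁻¹ by group, hw2]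
    group
  · rw [show g * t * g⁻¹ * (g * t * g⁻¹) = g * (t * t) * g⁻¹ by group, K.setup.mul_self]
    group
  · rw [mul_smul, mul_smul, ← hg, inv_smul_smul]
    exact fun e => htc ((smul_left_cancel_iff g).1 e)
  · have h4 : (t * k) * t * (t * k) = t * (t * k) * t := by
      calc (t * k) * t * (t * k) = t * k * (t * t) * k := by group
        _ = t * (k * k) := by rw [K.setup.mul_self, mul_one, mul_assoc]
        _ = t * k⁻¹ := by rw [eq_inv_of_mul_eq_one_left hk3]
        _ = t * (t * k * t) := by rw [hkinv]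
        _ = _ := by group
    calc g * t * g⁻¹ * (g * (t * k) * g⁻¹) * (g * t * g⁻¹) = g * (t * (t * k) * t) * g⁻¹ := by group
      _ = g * ((t * k) * t * (t * k)) * g⁻¹ := by rw [h4]
      _ = _ := by group

/-- The involutions of `G_a` together with `1`. -/
def center₀ : Subgroup G where
  carrier := {z | z ∈ stabilizer G a ∧ z * z = 1}
  one_mem' := ⟨one_mem _, one_mul _⟩
  inv_mem' := by
    rintro z ⟨h1, h2⟩
    exact ⟨inv_mem h1, by rw [← mul_inv_rev, h2, inv_one]⟩
  mul_mem' := by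
    rintro x y ⟨hx1, hx2⟩ ⟨hy1, hy2⟩
    refine ⟨mul_mem hx1 hy1, ?_⟩
    by_cases hy : y = 1
    · rw [hy, mul_one, hx2]
    by_cases hx : x = 1
    · rw [hx, one_mul, hy2]
    have hc : x * y = y * x := (K.central x hx1 hx hx2).2 y (K.central y hy1 hy hy2).1
    calc x * y * (x * y) = x * y * (y * x) := by rw [← hc]
      _ = x * (y * y) * x := by group
      _ = 1 := by rw [hy2, mul_one, hx2]

theorem mem_center₀ {z : G} : z ∈ K.center₀ ↔ z ∈ stabilizer G a ∧ z * z = 1 := Iff.rfl

theorem center₀_le : K.center₀ ≤ Q := fun z hz => by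
  by_cases h : z = 1
  · rw [h]; exact one_mem _
  · exact (K.central z hz.1 h hz.2).1

theorem conj_center₀ {d z : G} (hd : d ∈ stabilizer G a) (hz : z ∈ K.center₀) :
    d * z * d⁻¹ ∈ K.center₀ :=
  ⟨mul_mem (mul_mem hd hz.1) (inv_mem hd), by
    rw [show d * z * d⁻¹ * (d * z * d⁻¹) = d * (z * z) * d⁻¹ by group, hz.2]; group⟩

theorem card_center₀ : Nat.card K.center₀ = q := by
  classical
  have hK : Cfsg.invertedBy (stabilizer G a ⊓ stabilizer G (t • a) : Subgroup G) t =
      ((stabilizer G a ⊓ stabilizer G (t • a) : Subgroup G) : Set G) := by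
    ext x
    rw [RankOne.mem_inverted_iff K.setup]
    exact ⟨fun h => h.1, fun h => ⟨h, K.inverts x h⟩⟩
  have h1 := RankOne.card_inverted K.setup
  rw [hK] at h1
  refine Eq.trans ?_ K.card_pair
  rw [show Nat.card ↥(stabilizer G a ⊓ stabilizer G (t • a)) =
    Nat.card ((stabilizer G a ⊓ stabilizer G (t • a) : Subgroup G) : Set G) from rfl, h1,
    Nat.card_coe_set_eq]
  have e : (K.center₀ : Set G) = insert 1 (Cfsg.involutionsIn (stabilizer G a : Set G)) := by
    ext z
    refine ⟨fun hz => ?_, ?_⟩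
    · by_cases h : z = 1
      · exact Or.inl h
      · exact Or.inr ⟨hz.1, h, hz.2⟩
    · rintro (h | ⟨h1, -, h2⟩)
      · rw [h]; exact one_mem _
      · exact ⟨h1, h2⟩
  rw [show Nat.card K.center₀ = Nat.card (K.center₀ : Set G) from rfl, Nat.card_coe_set_eq, e,
    Set.ncard_insert_of_notMem (fun h => h.2.1 rfl) (Set.toFinite _)]

end KernelData

variable (K : KernelData G Ω a t Q n q)

include K

/-- The set `Z₀ D ∪ Z₀ D t Z₀`. -/
def lineCarrier : Set G :=
  {g | (∃ z ∈ K.center₀, ∃ d ∈ stabilizer G a ⊓ stabilizer G (t • a), g = z * d) ∨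
    ∃ z ∈ K.center₀, ∃ d ∈ stabilizer G a ⊓ stabilizer G (t • a), ∃ w ∈ K.center₀, g = z * d * t * w}

theorem tzt_mem {s : G} (hs : s ∈ stabilizer G a) (hs1 : s ≠ 1) (hs2 : s * s = 1)
    (hbraid : t * s * t = s * t * s) {z : G} (hz : z ∈ K.center₀) (hz1 : z ≠ 1) :
    ∃ z₁ ∈ K.center₀, ∃ d ∈ stabilizer G a ⊓ stabilizer G (t • a), t * z * t = z₁ * d * t * z₁ := by
  obtain ⟨k, hk, hkz⟩ := RankOne.conj_inverted_surjective K.setup (s := s) (s' := z)
    ⟨hs, hs1, hs2⟩ ⟨hz.1, hz1, hz.2⟩
  obtain ⟨hkD, hkt⟩ := (RankOne.mem_inverted_iff K.setup).1 hk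
  refine ⟨k * s * k⁻¹, K.conj_center₀ (Subgroup.mem_inf.1 hkD).1 ⟨hs, hs2⟩, k * k, mul_mem hkD hkD, ?_⟩
  have ht := K.setup.mul_self
  have hkt' : t * k⁻¹ * t = k := by
    have := congrArg (·⁻¹) hkt
    simp only [mul_inv_rev, inv_inv, K.t_inv] at this
    rw [mul_assoc]; exact this
  calc t * z * t = t * (k⁻¹ * s * k) * t := by rw [hkz]
    _ = (t * k⁻¹ * t) * (t * s * t) * (t * k * t) := by
        simp only [mul_assoc]
        simp only [← mul_assoc t t, ht, one_mul]
    _ = k * (s * t * s) * k⁻¹ := by rw [hkt', hbraid, hkt]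
    _ = (k * s * k⁻¹) * (k * t * k⁻¹) * (k * s * k⁻¹) := by group
    _ = (k * s * k⁻¹) * (k * k * t) * (k * s * k⁻¹) := by
        have e : k * t * k⁻¹ = k * k * t := by
          calc k * t * k⁻¹ = k * (t * k⁻¹ * t) * t := by
                simp only [mul_assoc, ht, mul_one]
            _ = k * k * t := by rw [hkt']
        rw [e]
    _ = _ := by group

end CfsgLib.Zassenhaus
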